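import Cfsg.Agent.Lib.CosetCert.Level

/-!
# Chains of stabilisers of explicit permutation groups

Kernel friendly checks for the letters of a level of a stabiliser chain, the theorem for a level,
primitivity from a forest of the orbits of the stabiliser, and simplicity from primitivity and a
generating pair `a, b` with `a ^ 2 = b ^ 3 = (a * b) ^ q = 1`, where `q` is prime to the order of the
point stabiliser.
-/

namespace Cfsg.Agent.Lib.CosetCert

open Equiv
open Cfsg.Agent.Lib.TC.Core Cfsg.Agent.Lib.TC.Pres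

/-! ### Checks for the kernel -/

/-- A cell of a packed table. -/
noncomputable def cell (w mask T x : ℕ) : ℕ := Nat.land (Nat.shiftRight T (Nat.mul x w)) mask

/-- A walk for the kernel. -/
noncomputable def walkK (F : ℕ → ℕ → ℕ) (K : ℕ → Bool) (l : List ℕ) : ℕ → Bool :=
  List.rec K (fun z _ ih cur => force (F z cur) ih) l

theorem walkK_eq (F : ℕ → ℕ → ℕ) (K : ℕ → Bool) (l : List ℕ) (x : ℕ) :
    walkK F K l x = K (walk (fun x l => F l x) x l) := by
  induction l generalizing x with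
  | nil => rfl
  | cons z l ih =>
    have h : walkK F K (z :: l) x = force (F z x) (walkK F K l) := rfl
    rw [h, force_eq, ih]
    rfl

/-- All the words fix the point `x`. -/
noncomputable def wordFixes (F : ℕ → ℕ → ℕ) (rels : List (List ℕ)) (x : ℕ) : Bool :=
  List.rec true (fun l _ ih => andB (walkK F (fun u => Nat.beq u x) l x) ih) rels

theorem wordFixes_spec {F : ℕ → ℕ → ℕ} {rels : List (List ℕ)} {x : ℕ}
    (h : wordFixes F rels x = true) : ∀ l ∈ rels, walk (fun x l => F l x) x l = x := by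
  induction rels with
  | nil => intro l hl; simp at hl
  | cons m rels ih =>
    have h' : andB (walkK F (fun u => Nat.beq u x) m x) (wordFixes F rels x) = true := h
    rw [andB_eq_true, walkK_eq] at h'
    intro l hl
    rcases List.mem_cons.1 hl with rfl | hl
    · exact Nat.eq_of_beq_eq_true h'.1
    · exact ih h'.2 l hl

/-- The words have the same action on `x` as the letters of a second table. -/
noncomputable def wordIs (F F' : ℕ → ℕ → ℕ) (subs : List (List ℕ)) (x : ℕ) : ℕ → Bool :=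
  List.rec (fun _ => true)
    (fun l _ ih i => andB (walkK F (fun u => Nat.beq u (F' i x)) l x) (ih (Nat.succ i))) subs

theorem wordIs_spec {F F' : ℕ → ℕ → ℕ} {subs : List (List ℕ)} {x i : ℕ}
    (h : wordIs F F' subs x i = true) :
    ∀ j (hj : j < subs.length), walk (fun x l => F l x) x subs[j] = F' (i + j) x := by
  induction subs generalizing i with
  | nil => intro j hj; simp at hj
  | cons m subs ih =>
    have h' : andB (walkK F (fun u => Nat.beq u (F' i x)) m x) (wordIs F F' subs x (Nat.succ i)) =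
        true := h
    rw [andB_eq_true, walkK_eq] at h'
    intro j hj
    cases j with
    | zero => exact Nat.eq_of_beq_eq_true h'.1
    | succ j =>
      have := ih h'.2 j (by simpa using hj)
      simp only [List.getElem_cons_succ]
      rw [this]
      congr 1
      simp only [Nat.succ_eq_add_one]
      omega

/-- The check of a letter at a point. -/
noncomputable def letterOK (F : ℕ → ℕ → ℕ) (inv : ℕ → ℕ) (N l x : ℕ) : Bool :=
  force (F l x) fun y => andB (Nat.blt y N) (Nat.beq (F (inv l) y) x)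

/-- The check of all the letters. -/
noncomputable def lettersChk (k : ℕ) (F : ℕ → ℕ → ℕ) (inv : ℕ → ℕ) (N d : ℕ) : Bool :=
  allLt (fun l => allR (guard N (letterOK F inv N l)) d 0) k

theorem lettersChk_spec {k : ℕ} {F : ℕ → ℕ → ℕ} {inv : ℕ → ℕ} {N d : ℕ} (hd : N ≤ 2 ^ d)
    (h : lettersChk k F inv N d = true) :
    ∀ l, l < k → ∀ x, x < N → F l x < N ∧ F (inv l) (F l x) = x := by
  intro l hl x hx
  have h1 := all_of_allR hd (allLt_spec h l hl) x hx
  rw [letterOK, force_eq, andB_eq_true] at h1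
  exact ⟨Nat.le_of_ble_eq_true h1.1, Nat.eq_of_beq_eq_true h1.2⟩

/-- The letters from a check. -/
def Letters.ofChk (k : ℕ) (F : ℕ → ℕ → ℕ) (inv : ℕ → ℕ) (N d : ℕ) (hd : N ≤ 2 ^ d)
    (h1 : ∀ l, l < k → inv l < k) (h2 : ∀ l, l < k → inv (inv l) = l)
    (h : lettersChk k F inv N d = true) : Letters N where
  k := k
  F := F
  inv := inv
  inv_lt := h1
  inv_inv := h2
  F_lt := fun l hl x hx => (lettersChk_spec hd h l hl x hx).1
  F_inv := fun l hl x hx => (lettersChk_spec hd h l hl x hx).2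

/-- The check of a point of the orbit of a level. -/
noncomputable def orbOK (F : ℕ → ℕ → ℕ) (pt ptInv tp tl : ℕ → ℕ) (k c : ℕ) : Bool :=
  force (pt c) fun x =>
    andB (Nat.beq (ptInv x) c)
      (Nat.rec true (fun _ _ =>
        andB (Nat.blt (tl c) k)
          (andB (Nat.blt (tp c) c) (Nat.beq (F (tl c) (pt (tp c))) x))) c)

theorem orbOK_spec {F : ℕ → ℕ → ℕ} {pt ptInv tp tl : ℕ → ℕ} {k c : ℕ}
    (h : orbOK F pt ptInv tp tl k c = true) :
    ptInv (pt c) = c ∧ (0 < c → tl c < k ∧ tp c < c ∧ F (tl c) (pt (tp c)) = pt c) := by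
  rw [orbOK, force_eq, andB_eq_true] at h
  refine ⟨Nat.eq_of_beq_eq_true h.1, fun h0 => ?_⟩
  obtain ⟨c, rfl⟩ : ∃ u, c = u + 1 := ⟨c - 1, by omega⟩
  have h2 : andB (Nat.blt (tl (c + 1)) k)
      (andB (Nat.blt (tp (c + 1)) (c + 1)) (Nat.beq (F (tl (c + 1)) (pt (tp (c + 1)))) (pt (c + 1)))) =
      true := h.2
  simp only [andB_eq_true] at h2
  exact ⟨Nat.le_of_ble_eq_true h2.1, Nat.le_of_ble_eq_true h2.2.1, Nat.eq_of_beq_eq_true h2.2.2⟩

/-! ### The theorem for a level -/

section Level2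

variable {N : ℕ} (L L' : Letters N)

theorem Letters.G_le_of_val {K : Subgroup (Perm (Fin N))} (h : ∀ l, l < L.k → L.val l ∈ K) :
    L.G ≤ K := by
  rw [Letters.G, Subgroup.closure_le]
  rintro _ ⟨l, hl, rfl⟩
  exact h l hl

theorem Letters.fix_of_mem {p : Fin N} (hfix : ∀ s, s < L.k → L.F s p = p) :
    ∀ s ∈ L.G, s p = p := by
  have h : L.G ≤ MulAction.stabilizer (Perm (Fin N)) p := by
    apply L.G_le_of_val
    intro l hl
    rw [MulAction.mem_stabilizer_iff]
    apply Fin.ext
    exact (L.val_apply hl p).trans (hfix l hl)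
  intro s hs
  exact h hs

/-- A level of a chain. -/
theorem level_of_checks (C : Cert) (hk : C.k = L.k) (rels subs : List (List ℕ))
    (wit : ℕ → ℕ × ℕ × Bool)
    (hrelk : ∀ l ∈ rels, ∀ z ∈ l, z < L.k)
    (hrel : ∀ x, x < N → wordFixes L.F rels x = true)
    (hsubk : ∀ l ∈ subs, ∀ z ∈ l, z < L.k)
    (hsubs : ∀ x, x < N → wordIs L.F L'.F subs x 0 = true)
    (hlen : subs.length ≤ L'.k)
    (hlet : ∀ l, l < L'.k → l < subs.length ∨ L'.inv l < subs.length)
    (h1 : chkRelRots C L.inv rels wit = true) (h2 : chkSubRots C subs = true)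
    (hC : Checked C) {m : ℕ} (hcount : C.countRoots C.N = m)
    (p : Fin N) (hfix : ∀ s, s < L'.k → L'.F s p = p)
    (pt ptInv tp tl : ℕ → ℕ) (h0 : pt 0 = p)
    (horb : ∀ c, c < m → orbOK L.F pt ptInv tp tl L.k c = true) :
    LevelResult L.G L'.G p m pt := by
  -- the words of the subgroup
  have hw : ∀ j (hj : j < subs.length), ev L.val subs[j] = L'.val j := by
    intro j hj
    refine L.ev_eq_val L' (hsubk _ (List.getElem_mem hj)) (by omega) (fun x hx => ?_)
    have := wordIs_spec (hsubs x hx) j hj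
    rw [zero_add] at this
    exact this
  have hrel' : ∀ l ∈ rels, ev L.val l = 1 := by
    intro l hl
    exact L.ev_eq_one (hrelk l hl) fun x hx => wordFixes_spec (hrel x hx) l hl
  have hsub : ∀ l ∈ subs, ev L.val l ∈ L'.G := by
    intro l hl
    obtain ⟨j, hj, rfl⟩ := List.mem_iff_getElem.1 hl
    rw [hw j hj]
    exact L'.val_mem (by omega)
  have hI := index_of_cert L L' C hk rels subs wit hrelk hrel' hsubk hsub h1 h2 hC
  rw [hcount] at hI
  have hle : L'.G ≤ L.G := by
    apply L'.G_le_of_val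
    intro l hl
    rcases hlet l hl with h | h
    · rw [← hw l h]
      exact L.ev_mem (hsubk _ (List.getElem_mem h))
    · have h3 := L'.val_inv hl
      have h4 : L'.val l = (L'.val (L'.inv l))⁻¹ := by rw [h3, inv_inv]
      rw [h4, ← hw _ h]
      exact L.G.inv_mem (L.ev_mem (hsubk _ (List.getElem_mem h)))
  refine levelResult_of_index (ptInv := ptInv) hle (L'.fix_of_mem hfix)
    (fun c hc => (orbOK_spec (horb c hc)).1) ?_ hI.2 hI.1
  intro c
  induction c using Nat.strong_induction_on with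
  | _ c ih =>
    intro hc
    rcases Nat.eq_zero_or_pos c with rfl | hc0
    · exact ⟨1, L.G.one_mem, by simp [h0]⟩
    · obtain ⟨h3, h4, h5⟩ := (orbOK_spec (horb c hc)).2 hc0
      obtain ⟨g, hg, e⟩ := ih _ h4 (by omega)
      refine ⟨L.val (tl c) * g, L.G.mul_mem (L.val_mem h3) hg, ?_⟩
      rw [Perm.mul_apply, L.val_apply h3, e, h5]

/-- A bottom of a chain. -/
theorem Letters.card_G_of_k_eq_zero (h : L.k = 0) : Nat.card L.G = 1 := by
  have : L.G = ⊥ := by
    rw [eq_bot_iff]
    apply L.G_le_of_val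
    intro l hl
    omega
  rw [this]
  exact Subgroup.card_bot

end Level2

/-! ### The stabiliser in the statement form -/

section Stab

variable {N : ℕ} {G S : Subgroup (Perm (Fin N))} {p : Fin N} {m : ℕ} {pt : ℕ → ℕ}

/-- The stabiliser as a subgroup of the group is the subgroup `S`. -/
noncomputable def LevelResult.stabEquiv (h : LevelResult G S p m pt) :
    MulAction.stabilizer G p ≃* S where
  toFun g := ⟨g.1.1, h.stab _ g.1.2 (by
    have := g.2
    rw [MulAction.mem_stabilizer_iff] at this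
    exact this)⟩
  invFun s := ⟨⟨s.1, h.le s.2⟩, by
    rw [MulAction.mem_stabilizer_iff]
    exact h.fix _ s.2⟩
  left_inv g := rfl
  right_inv s := rfl
  map_mul' a b := rfl

theorem LevelResult.card_stabilizer (h : LevelResult G S p m pt) :
    Nat.card (MulAction.stabilizer G p) = Nat.card S :=
  Nat.card_congr h.stabEquiv.toEquiv

end Stab

/-! ### Primitivity from a forest of orbits -/

/-- The check of a point in the forest of the orbits of a stabiliser. -/
noncomputable def forestOK (F' : ℕ → ℕ → ℕ) (k' N : ℕ) (lab rep fp fl fd : ℕ → ℕ) (x : ℕ) : Bool :=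
  Bool.rec
    (andB (Nat.blt (fp x) N)
      (andB (Nat.blt (fl x) k')
        (andB (Nat.blt (fd (fp x)) (fd x))
          (andB (Nat.beq (lab (fp x)) (lab x)) (Nat.beq (F' (fl x) (fp x)) x)))))
    true
    (Nat.beq (rep (lab x)) x)

theorem forestOK_spec {F' : ℕ → ℕ → ℕ} {k' N : ℕ} {lab rep fp fl fd : ℕ → ℕ} {x : ℕ}
    (h : forestOK F' k' N lab rep fp fl fd x = true) :
    rep (lab x) = x ∨ (fp x < N ∧ fl x < k' ∧ fd (fp x) < fd x ∧ lab (fp x) = lab x ∧
      F' (fl x) (fp x) = x) := by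
  unfold forestOK at h
  cases hb : Nat.beq (rep (lab x)) x with
  | true => exact Or.inl (Nat.eq_of_beq_eq_true hb)
  | false =>
    rw [hb] at h
    simp only [andB_eq_true] at h
    exact Or.inr ⟨Nat.le_of_ble_eq_true h.1, Nat.le_of_ble_eq_true h.2.1,
      Nat.le_of_ble_eq_true h.2.2.1, Nat.eq_of_beq_eq_true h.2.2.2.1,
      Nat.eq_of_beq_eq_true h.2.2.2.2⟩

section Forest

variable {N : ℕ} (L L' : Letters N) {p : Fin N} {m : ℕ} {pt : ℕ → ℕ}

/-- Every point is an image under the subgroup of the representative of its orbit. -/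
theorem forest_connect {lab rep fp fl fd : ℕ → ℕ}
    (hforest : ∀ x, x < N → forestOK L'.F L'.k N lab rep fp fl fd x = true) :
    ∀ x : Fin N, ∃ s ∈ L'.G, ∃ r : Fin N, r.1 = rep (lab x) ∧ s r = x := by
  have key : ∀ d x, fd x = d → ∀ hx : x < N, ∃ s ∈ L'.G, ∃ r : Fin N, r.1 = rep (lab x) ∧
      s r = ⟨x, hx⟩ := by
    intro d
    induction d using Nat.strong_induction_on with
    | _ d ih =>
      intro x hd hx
      rcases forestOK_spec (hforest x hx) with h | ⟨h1, h2, h3, h4, h5⟩
      · exact ⟨1, L'.G.one_mem, ⟨x, hx⟩, h.symm, rfl⟩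
      · obtain ⟨s, hs, r, hr, e⟩ := ih _ (by omega) (fp x) rfl h1
        rw [h4] at hr
        refine ⟨L'.val (fl x) * s, L'.G.mul_mem (L'.val_mem h2) hs, r, hr, ?_⟩
        rw [Perm.mul_apply, e]
        apply Fin.ext
        rw [L'.val_apply h2]
        exact h5
  intro x
  exact key _ x.1 rfl x.2

/-- The subgroup `S` is maximal, from the forest of its orbits. -/
theorem maximal_of_forest (hres : LevelResult L.G L'.G p m pt) {lab rep fp fl fd : ℕ → ℕ}
    (hforest : ∀ x, x < N → forestOK L'.F L'.k N lab rep fp fl fd x = true)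
    {nl : ℕ} (hlab : ∀ x, x < N → lab x < nl) (hrep0 : rep 0 = p)
    (tw : ℕ → List ℕ)
    (htw : ∀ i, 0 < i → i < nl → (∀ z ∈ tw i, z < L.k) ∧
      walk (fun x l => L.F l x) p (tw i) = rep i)
    (cw cd : ℕ → ℕ → ℕ)
    (hconn : ∀ i, 0 < i → i < nl → ∀ j, 0 < j → j < nl → cw i j < N ∧ lab (cw i j) < nl ∧
      cd i (lab (cw i j)) < cd i j ∧ lab (walk (fun x l => L.F l x) (cw i j) (tw i)) = j)
    (K : Subgroup (Perm (Fin N))) (hSK : L'.G ≤ K) (hKG : K ≤ L.G) (hne : K ≠ L'.G) : K = L.G := by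
  have hconnect := forest_connect L' hforest
  have hexists : ∃ g ∈ K, g ∉ L'.G := by
    by_contra hcon
    push Not at hcon
    exact hne (le_antisymm hcon hSK)
  obtain ⟨g, hgK, hgS⟩ := hexists
  -- the orbit of `g p`
  have hgp : g p ≠ p := fun h => hgS (hres.stab g (hKG hgK) h)
  set y := g p with hy
  set i := lab y.1 with hi
  obtain ⟨s, hs, r, hr, e⟩ := hconnect y
  rw [← hi] at hr
  have hi0 : 0 < i := by
    rcases Nat.eq_zero_or_pos i with h | h
    · exfalso
      have hr' : r = p := by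
        apply Fin.ext
        rw [hr, h, hrep0]
      rw [hr', hres.fix s hs] at e
      exact hgp e.symm
    · exact h
  have hil : i < nl := hlab y.1 y.2
  obtain ⟨hw1, hw2⟩ := htw i hi0 hil
  -- the word is in `K`
  set t := ev L.val (tw i) with ht
  have htG : t ∈ L.G := L.ev_mem hw1
  have htp : t p = r := by
    apply Fin.ext
    rw [ht, L.ev_apply hw1, hw2, hr]
  have htK : t ∈ K := by
    have h1 : (s * t)⁻¹ * g ∈ L'.G := by
      apply hres.stab
      · exact L.G.mul_mem (L.G.inv_mem (L.G.mul_mem (hres.le hs) htG)) (hKG hgK)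
      · rw [Perm.mul_apply, Perm.inv_eq_iff_eq, Perm.mul_apply, htp, e]
    have h2 : s * t ∈ K := by
      have h3 := K.mul_mem hgK (K.inv_mem (hSK h1))
      have h4 : g * ((s * t)⁻¹ * g)⁻¹ = s * t := by group
      rwa [h4] at h3
    have h5 := K.mul_mem (K.inv_mem (hSK hs)) h2
    rwa [inv_mul_cancel_left] at h5
  -- all the representatives are in the orbit
  have hreps : ∀ d j, cd i j = d → j < nl → ∃ a ∈ K, ((a p : Fin N) : ℕ) = rep j := by
    intro d
    induction d using Nat.strong_induction_on with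
    | _ d ih =>
      intro j hd hj
      rcases Nat.eq_zero_or_pos j with rfl | hj0
      · exact ⟨1, K.one_mem, by simp [hrep0]⟩
      · obtain ⟨h0, h1, h2, h3⟩ := hconn i hi0 hil j hj0 hj
        obtain ⟨a, ha, ea⟩ := ih _ (by omega) (lab (cw i j)) rfl h1
        -- the witness point is in the orbit
        obtain ⟨s₁, hs₁, r₁, hr₁, e₁⟩ := hconnect ⟨cw i j, h0⟩
        have h4 : a p = r₁ := by
          apply Fin.ext
          rw [ea, hr₁]
        -- its image under `t`
        have h5 : ((t ⟨cw i j, h0⟩ : Fin N) : ℕ) = walk (fun x l => L.F l x) (cw i j) (tw i) := by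
          rw [ht, L.ev_apply hw1]
        obtain ⟨s', hs', r', hr', e'⟩ := hconnect (t ⟨cw i j, h0⟩)
        have h6 : lab ((t ⟨cw i j, h0⟩ : Fin N) : ℕ) = j := by rw [h5]; exact h3
        refine ⟨s'⁻¹ * (t * (s₁ * a)), K.mul_mem (K.inv_mem (hSK hs'))
          (K.mul_mem htK (K.mul_mem (hSK hs₁) ha)), ?_⟩
        have h7 : s'⁻¹ (t ⟨cw i j, h0⟩) = r' := by rw [Perm.inv_eq_iff_eq, e']
        rw [Perm.mul_apply, Perm.mul_apply, Perm.mul_apply, h4, e₁, h7, hr', h6]
  -- so `K` is transitive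
  have htrans : ∀ x : Fin N, ∃ a ∈ K, a p = x := by
    intro x
    obtain ⟨s', hs', r', hr', e'⟩ := hconnect x
    obtain ⟨a, ha, ea⟩ := hreps _ (lab x.1) rfl (hlab x.1 x.2)
    refine ⟨s' * a, K.mul_mem (hSK hs') ha, ?_⟩
    have h8 : a p = r' := by
      apply Fin.ext
      rw [ea, hr']
    rw [Perm.mul_apply, h8, e']
  apply le_antisymm hKG
  intro h hh
  obtain ⟨a, ha, ea⟩ := htrans (h p)
  have h1 : a⁻¹ * h ∈ L'.G := by
    apply hres.stab
    · exact L.G.mul_mem (L.G.inv_mem (hKG ha)) hh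
    · rw [Perm.mul_apply, Perm.inv_eq_iff_eq, ea]
  have h2 := K.mul_mem ha (hSK h1)
  rwa [mul_inv_cancel_left] at h2

end Forest

/-! ### Simplicity -/

section Simple

/-- A group with a maximal subgroup with trivial core, prime to `q`, which is generated by `a, b` with
`a ^ 2 = b ^ 3 = (a * b) ^ q = 1`, is simple. -/
theorem isSimple_of_maximal_coprime {G : Type*} [Group G] [Finite G] [Nontrivial G] (S : Subgroup G)
    (hmax : ∀ K : Subgroup G, S ≤ K → K = S ∨ K = ⊤)
    (hcore : ∀ M : Subgroup G, M.Normal → M ≤ S → M = ⊥)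
    (q : ℕ) (hq : (Nat.card S).Coprime q)
    (a b : G) (ha : a ^ 2 = 1) (hb : b ^ 3 = 1) (hab : (a * b) ^ q = 1)
    (hgen : ∀ M : Subgroup G, a ∈ M → b ∈ M → M = ⊤) : IsSimpleGroup G := by
  refine ⟨fun M hM => ?_⟩
  by_cases hbot : M = ⊥
  · exact Or.inl hbot
  right
  -- `S M = G`
  have hSM : S ⊔ M = ⊤ := by
    rcases hmax (S ⊔ M) le_sup_left with h | h
    · exfalso
      apply hbot
      apply hcore M hM
      rw [← h]
      exact le_sup_right
    · exact h
  -- the quotient is an image of `S`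
  have hsurj : Function.Surjective ((QuotientGroup.mk' M).comp S.subtype) := by
    intro x
    obtain ⟨g, rfl⟩ := QuotientGroup.mk'_surjective M x
    have hg : g ∈ ((S ⊔ M : Subgroup G) : Set G) := by rw [hSM]; trivial
    rw [Subgroup.mul_normal] at hg
    obtain ⟨s, hs, m, hm, rfl⟩ := Set.mem_mul.1 hg
    refine ⟨⟨s, hs⟩, ?_⟩
    simp only [MonoidHom.comp_apply, Subgroup.subtype_apply]
    rw [map_mul]
    have : QuotientGroup.mk' M m = 1 := (QuotientGroup.eq_one_iff m).2 hm
    rw [this, mul_one]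
  have hdvd : Nat.card (G ⧸ M) ∣ Nat.card S := by
    have h := Subgroup.card_dvd_of_surjective _ hsurj
    exact h
  have hq' : (Nat.card (G ⧸ M)).Coprime q := Nat.Coprime.coprime_dvd_left hdvd hq
  -- the image of `a * b` is trivial
  set π := QuotientGroup.mk' M with hπ
  have h1 : π (a * b) = 1 := by
    have h2 : orderOf (π (a * b)) ∣ Nat.card (G ⧸ M) := orderOf_dvd_natCard _
    have h3 : orderOf (π (a * b)) ∣ q := by
      apply orderOf_dvd_of_pow_eq_one
      rw [← map_pow, hab, map_one]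
    have h4 : orderOf (π (a * b)) = 1 := Nat.eq_one_of_dvd_coprimes hq' h2 h3
    exact orderOf_eq_one_iff.1 h4
  have h5 : π b = (π a)⁻¹ := by
    rw [map_mul] at h1
    exact eq_inv_of_mul_eq_one_right h1
  have h6 : π a ^ 2 = 1 := by rw [← map_pow, ha, map_one]
  have h7 : π b ^ 3 = 1 := by rw [← map_pow, hb, map_one]
  have h8 : π a = 1 := by
    rw [h5, inv_pow] at h7
    have h9 : π a ^ 3 = 1 := by simpa using h7
    have h10 : π a ^ 3 = π a ^ 2 * π a := pow_succ _ _
    rw [h10, h6, one_mul] at h9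
    exact h9
  have h11 : π b = 1 := by rw [h5, h8, inv_one]
  exact hgen M ((QuotientGroup.eq_one_iff a).1 h8) ((QuotientGroup.eq_one_iff b).1 h11)

variable {N : ℕ} (L L' : Letters N) {p : Fin N} {m : ℕ} {pt : ℕ → ℕ}

/-- Simplicity for a level with a generating pair. -/
theorem isSimple_of_level (hres : LevelResult L.G L'.G p m pt)
    (htrans : ∀ x : Fin N, ∃ g ∈ L.G, g p = x)
    (hmax : ∀ K : Subgroup (Perm (Fin N)), L'.G ≤ K → K ≤ L.G → K ≠ L'.G → K = L.G)
    (hcard : 1 < Nat.card L.G)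
    (q : ℕ) (hq : (Nat.card L'.G).Coprime q) {a b : ℕ} (ha : a < L.k) (hb : b < L.k)
    (h2 : ev L.val [a, a] = 1) (h3 : ev L.val [b, b, b] = 1)
    (h4 : (ev L.val [b, a]) ^ q = 1)
    (hlet : ∀ l, l < L.k → l = a ∨ l = b ∨ L.inv l = a ∨ L.inv l = b) :
    IsSimpleGroup L.G := by
  have : Nontrivial L.G := (Finite.one_lt_card_iff_nontrivial).1 hcard
  set S : Subgroup L.G := L'.G.subgroupOf L.G with hS
  have hcardS : Nat.card S = Nat.card L'.G :=
    Nat.card_congr (Subgroup.subgroupOfEquivOfLe hres.le).toEquiv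
  have hE : ∀ c (hc : c < L.k), ((L.E c : L.G) : Perm (Fin N)) = L.val c := fun c hc => L.E_coe hc
  refine isSimple_of_maximal_coprime S ?_ ?_ q (by rw [hcardS]; exact hq) (L.E a) (L.E b)
    ?_ ?_ ?_ ?_
  · -- maximality
    intro K hK
    by_cases h : K = S
    · exact Or.inl h
    right
    have h1 : L'.G ≤ K.map L.G.subtype := by
      intro s hs
      exact ⟨⟨s, hres.le hs⟩, hK (by rw [hS, Subgroup.mem_subgroupOf]; exact hs), rfl⟩
    have h5 : K.map L.G.subtype ≤ L.G := by
      rintro _ ⟨x, _, rfl⟩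
      exact x.2
    have h6 : K.map L.G.subtype ≠ L'.G := by
      intro h7
      apply h
      apply le_antisymm _ hK
      intro x hx
      rw [hS, Subgroup.mem_subgroupOf, ← h7]
      exact ⟨x, hx, rfl⟩
    have h8 := hmax _ h1 h5 h6
    rw [eq_top_iff]
    intro x _
    have h9 : (x : Perm (Fin N)) ∈ K.map L.G.subtype := by rw [h8]; exact x.2
    obtain ⟨y, hy, hyx⟩ := h9
    have : y = x := Subtype.ext hyx
    rwa [← this]
  · -- the core
    intro M hM hle
    rw [eq_bot_iff]
    intro x hx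
    rw [Subgroup.mem_bot]
    apply Subtype.ext
    ext z
    obtain ⟨g, hg, rfl⟩ := htrans z
    have h5 : (⟨g, hg⟩ : L.G)⁻¹ * x * ⟨g, hg⟩ ∈ M := by
      have := hM.conj_mem x hx (⟨g, hg⟩ : L.G)⁻¹
      simpa using this
    have h6 := hle h5
    rw [hS, Subgroup.mem_subgroupOf] at h6
    have h7 := hres.fix _ h6
    have h8 : ((x : Perm (Fin N))) (g p) = g p := by
      have h9 : (((⟨g, hg⟩ : L.G)⁻¹ * x * ⟨g, hg⟩ : L.G) : Perm (Fin N)) = g⁻¹ * x * g := rfl
      rw [h9, Perm.mul_apply, Perm.mul_apply, Perm.inv_eq_iff_eq] at h7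
      exact h7
    rw [h8]
    rfl
  · apply Subtype.ext
    rw [Subgroup.coe_pow, L.E_coe ha, pow_two]
    have := h2
    simp only [ev_cons, ev_nil, one_mul] at this
    rw [Subgroup.coe_one]
    exact this
  · apply Subtype.ext
    rw [Subgroup.coe_pow, L.E_coe hb, pow_succ, pow_two]
    have := h3
    simp only [ev_cons, ev_nil, one_mul] at this
    rw [Subgroup.coe_one]
    exact this
  · apply Subtype.ext
    rw [Subgroup.coe_pow, Subgroup.coe_mul, L.E_coe ha, L.E_coe hb, Subgroup.coe_one]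
    have := h4
    simp only [ev_cons, ev_nil, one_mul] at this
    exact this
  · intro M hMa hMb
    rw [eq_top_iff, ← L.closure_E, Subgroup.closure_le]
    rintro _ ⟨c, hc, rfl⟩
    have hinv : ∀ c, c < L.k → L.E c = (L.E (L.inv c))⁻¹ := by
      intro c hc
      apply Subtype.ext
      rw [InvMemClass.coe_inv, L.E_coe hc, L.E_coe (L.inv_lt c hc), L.val_inv hc, inv_inv]
    rcases hlet c hc with rfl | rfl | h | h
    · exact hMa
    · exact hMb
    · rw [SetLike.mem_coe, hinv c hc, h]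
      exact M.inv_mem hMa
    · rw [SetLike.mem_coe, hinv c hc, h]
      exact M.inv_mem hMb

end Simple

/-! ### Small checks -/

/-- The check of the words to the representatives of the orbits. -/
noncomputable def twOK (F : ℕ → ℕ → ℕ) (k p : ℕ) (rep : ℕ → ℕ) (tw : ℕ → List ℕ) (nl : ℕ) : Bool :=
  allLt (fun i => Nat.rec true (fun _ _ =>
    andB (List.rec true (fun z _ ih => andB (Nat.blt z k) ih) (tw i))
      (walkK F (fun u => Nat.beq u (rep i)) (tw i) p)) i) nl

theorem twOK_spec {F : ℕ → ℕ → ℕ} {k p : ℕ} {rep : ℕ → ℕ} {tw : ℕ → List ℕ} {nl : ℕ}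
    (h : twOK F k p rep tw nl = true) :
    ∀ i, 0 < i → i < nl → (∀ z ∈ tw i, z < k) ∧ walk (fun x l => F l x) p (tw i) = rep i := by
  intro i h0 hi
  have h1 := allLt_spec h i hi
  obtain ⟨j, rfl⟩ : ∃ u, i = u + 1 := ⟨i - 1, by omega⟩
  have h2 : andB (List.rec true (fun z _ ih => andB (Nat.blt z k) ih) (tw (j + 1)))
      (walkK F (fun u => Nat.beq u (rep (j + 1))) (tw (j + 1)) p) = true := h1
  rw [andB_eq_true, walkK_eq] at h2
  refine ⟨?_, Nat.eq_of_beq_eq_true h2.2⟩
  have h3 := h2.1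
  generalize tw (j + 1) = l at h3
  intro z hz
  induction l with
  | nil => simp at hz
  | cons a l ih =>
    have h4 : andB (Nat.blt a k) (List.rec true (fun z _ ih => andB (Nat.blt z k) ih) l) = true := h3
    rw [andB_eq_true] at h4
    rcases List.mem_cons.1 hz with rfl | hz
    · exact Nat.le_of_ble_eq_true h4.1
    · exact ih h4.2 hz

/-- The check of the connections between the orbits. -/
noncomputable def connOK (F : ℕ → ℕ → ℕ) (N : ℕ) (lab : ℕ → ℕ) (tw : ℕ → List ℕ)
    (cw cd : ℕ → ℕ → ℕ) (nl : ℕ) : Bool :=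
  allLt (fun i => Nat.rec true (fun _ _ =>
    allLt (fun j => Nat.rec true (fun _ _ =>
      andB (Nat.blt (cw i j) N)
        (andB (Nat.blt (lab (cw i j)) nl)
          (andB (Nat.blt (cd i (lab (cw i j))) (cd i j))
            (walkK F (fun u => Nat.beq (lab u) j) (tw i) (cw i j))))) j) nl) i) nl

theorem connOK_spec {F : ℕ → ℕ → ℕ} {N : ℕ} {lab : ℕ → ℕ} {tw : ℕ → List ℕ} {cw cd : ℕ → ℕ → ℕ}
    {nl : ℕ} (h : connOK F N lab tw cw cd nl = true) :
    ∀ i, 0 < i → i < nl → ∀ j, 0 < j → j < nl → cw i j < N ∧ lab (cw i j) < nl ∧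
      cd i (lab (cw i j)) < cd i j ∧ lab (walk (fun x l => F l x) (cw i j) (tw i)) = j := by
  intro i h0 hi j h0' hj
  have h1 := allLt_spec h i hi
  obtain ⟨i', rfl⟩ : ∃ u, i = u + 1 := ⟨i - 1, by omega⟩
  have h2 := allLt_spec (p := fun j => Nat.rec true (fun _ _ =>
      andB (Nat.blt (cw (i' + 1) j) N)
        (andB (Nat.blt (lab (cw (i' + 1) j)) nl)
          (andB (Nat.blt (cd (i' + 1) (lab (cw (i' + 1) j))) (cd (i' + 1) j))
            (walkK F (fun u => Nat.beq (lab u) j) (tw (i' + 1)) (cw (i' + 1) j))))) j) h1 j hj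
  obtain ⟨j', rfl⟩ : ∃ u, j = u + 1 := ⟨j - 1, by omega⟩
  have h3 : andB (Nat.blt (cw (i' + 1) (j' + 1)) N)
      (andB (Nat.blt (lab (cw (i' + 1) (j' + 1))) nl)
        (andB (Nat.blt (cd (i' + 1) (lab (cw (i' + 1) (j' + 1)))) (cd (i' + 1) (j' + 1)))
          (walkK F (fun u => Nat.beq (lab u) (j' + 1)) (tw (i' + 1)) (cw (i' + 1) (j' + 1))))) =
      true := h2
  simp only [andB_eq_true] at h3
  rw [walkK_eq] at h3
  exact ⟨Nat.le_of_ble_eq_true h3.1, Nat.le_of_ble_eq_true h3.2.1, Nat.le_of_ble_eq_true h3.2.2.1,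
    Nat.eq_of_beq_eq_true h3.2.2.2⟩

/-- A word acts as a relator at all points. -/
theorem Letters.ev_one_of_wordFixes {N : ℕ} (L : Letters N) {rels : List (List ℕ)}
    (hrelk : ∀ l ∈ rels, ∀ z ∈ l, z < L.k)
    (hrel : ∀ x, x < N → wordFixes L.F rels x = true) {l : List ℕ} (hl : l ∈ rels) :
    ev L.val l = 1 :=
  L.ev_eq_one (hrelk l hl) fun x hx => wordFixes_spec (hrel x hx) l hl

/-- The value of a power of a word. -/
theorem ev_flatten_replicate {Γ : Type*} [Group Γ] (val : ℕ → Γ) (w : List ℕ) (q : ℕ) :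
    ev val (List.replicate q w).flatten = (ev val w) ^ q := by
  induction q with
  | zero => simp
  | succ q ih =>
    rw [List.replicate_succ, List.flatten_cons, ev_append, ih, pow_succ]

/-- The transitivity from the points of a level: `pt` is the identity. -/
theorem LevelResult.transitive {N : ℕ} {G S : Subgroup (Perm (Fin N))} {p : Fin N} {pt : ℕ → ℕ}
    (h : LevelResult G S p N pt) (hpt : ∀ c, c < N → pt c = c) :
    ∀ x : Fin N, ∃ g ∈ G, g p = x := by
  intro x
  obtain ⟨g, hg, e⟩ := h.orbit x.1 x.2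
  refine ⟨g, hg, Fin.ext ?_⟩
  rw [e, hpt x.1 x.2]

/-- The action is transitive as in the statements. -/
theorem isPretransitive_of_transitive {N : ℕ} {G : Subgroup (Perm (Fin N))} {p : Fin N}
    (h : ∀ x : Fin N, ∃ g ∈ G, g p = x) : MulAction.IsPretransitive G (Fin N) := by
  refine ⟨fun x y => ?_⟩
  obtain ⟨g, hg, e⟩ := h x
  obtain ⟨g', hg', e'⟩ := h y
  refine ⟨⟨g' * g⁻¹, G.mul_mem hg' (G.inv_mem hg)⟩, ?_⟩
  change (g' * g⁻¹) x = y
  rw [Perm.mul_apply, ← e]
  simpa using e'

end Cfsg.Agent.Lib.CosetCert
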