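import Cfsg.Agent.Lib.CosetCert.Chain

/-!
# Stabiliser chains: the version for non transitive groups

The group `G = L.G` acts on `Fin N`, the orbit of the point `p` is `pt c`, `c < m`.  Primitivity on the
orbit from a forest of the orbits of the stabiliser on the orbit, and simplicity from generators of
orders prime to the order of the stabiliser.
-/

namespace Cfsg.Agent.Lib.CosetCert

open Equiv
open Cfsg.Agent.Lib.TC.Core Cfsg.Agent.Lib.TC.Pres

/-- The check of an index in the forest of the orbits of a stabiliser on an orbit. -/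
noncomputable def forestOK' (F' : ℕ → ℕ → ℕ) (k' m : ℕ) (pt lab rep fp fl fd : ℕ → ℕ) (c : ℕ) : Bool :=
  Bool.rec
    (andB (Nat.blt (fp c) m)
      (andB (Nat.blt (fl c) k')
        (andB (Nat.blt (fd (fp c)) (fd c))
          (andB (Nat.beq (lab (fp c)) (lab c)) (Nat.beq (F' (fl c) (pt (fp c))) (pt c))))))
    true
    (Nat.beq (rep (lab c)) c)

theorem forestOK'_spec {F' : ℕ → ℕ → ℕ} {k' m : ℕ} {pt lab rep fp fl fd : ℕ → ℕ} {c : ℕ}
    (h : forestOK' F' k' m pt lab rep fp fl fd c = true) :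
    rep (lab c) = c ∨ (fp c < m ∧ fl c < k' ∧ fd (fp c) < fd c ∧ lab (fp c) = lab c ∧
      F' (fl c) (pt (fp c)) = pt c) := by
  unfold forestOK' at h
  cases hb : Nat.beq (rep (lab c)) c with
  | true => exact Or.inl (Nat.eq_of_beq_eq_true hb)
  | false =>
    rw [hb] at h
    simp only [andB_eq_true] at h
    exact Or.inr ⟨Nat.le_of_ble_eq_true h.1, Nat.le_of_ble_eq_true h.2.1,
      Nat.le_of_ble_eq_true h.2.2.1, Nat.eq_of_beq_eq_true h.2.2.2.1,
      Nat.eq_of_beq_eq_true h.2.2.2.2⟩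

/-- The check of the connections between the orbits on an orbit. -/
noncomputable def connOK' (F : ℕ → ℕ → ℕ) (m : ℕ) (pt ptInv lab : ℕ → ℕ) (tw : ℕ → List ℕ)
    (cw cd : ℕ → ℕ → ℕ) (nl : ℕ) : Bool :=
  allLt (fun i => Nat.rec true (fun _ _ =>
    allLt (fun j => Nat.rec true (fun _ _ =>
      andB (Nat.blt (cw i j) m)
        (andB (Nat.blt (lab (cw i j)) nl)
          (andB (Nat.blt (cd i (lab (cw i j))) (cd i j))
            (walkK F (fun u => Nat.beq (lab (ptInv u)) j) (tw i) (pt (cw i j)))))) j) nl) i) nl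

theorem connOK'_spec {F : ℕ → ℕ → ℕ} {m : ℕ} {pt ptInv lab : ℕ → ℕ} {tw : ℕ → List ℕ}
    {cw cd : ℕ → ℕ → ℕ} {nl : ℕ} (h : connOK' F m pt ptInv lab tw cw cd nl = true) :
    ∀ i, 0 < i → i < nl → ∀ j, 0 < j → j < nl → cw i j < m ∧ lab (cw i j) < nl ∧
      cd i (lab (cw i j)) < cd i j ∧
      lab (ptInv (walk (fun x l => F l x) (pt (cw i j)) (tw i))) = j := by
  intro i h0 hi j h0' hj
  have h1 := allLt_spec h i hi
  obtain ⟨i', rfl⟩ : ∃ u, i = u + 1 := ⟨i - 1, by omega⟩
  have h2 := allLt_spec (p := fun j => Nat.rec true (fun _ _ =>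
      andB (Nat.blt (cw (i' + 1) j) m)
        (andB (Nat.blt (lab (cw (i' + 1) j)) nl)
          (andB (Nat.blt (cd (i' + 1) (lab (cw (i' + 1) j))) (cd (i' + 1) j))
            (walkK F (fun u => Nat.beq (lab (ptInv u)) j) (tw (i' + 1)) (pt (cw (i' + 1) j)))))) j)
      h1 j hj
  obtain ⟨j', rfl⟩ : ∃ u, j = u + 1 := ⟨j - 1, by omega⟩
  have h3 : andB (Nat.blt (cw (i' + 1) (j' + 1)) m)
      (andB (Nat.blt (lab (cw (i' + 1) (j' + 1))) nl)
        (andB (Nat.blt (cd (i' + 1) (lab (cw (i' + 1) (j' + 1)))) (cd (i' + 1) (j' + 1)))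
          (walkK F (fun u => Nat.beq (lab (ptInv u)) (j' + 1)) (tw (i' + 1))
            (pt (cw (i' + 1) (j' + 1)))))) = true := h2
  simp only [andB_eq_true] at h3
  rw [walkK_eq] at h3
  exact ⟨Nat.le_of_ble_eq_true h3.1, Nat.le_of_ble_eq_true h3.2.1, Nat.le_of_ble_eq_true h3.2.2.1,
    Nat.eq_of_beq_eq_true h3.2.2.2⟩

section Forest

variable {N : ℕ} (L L' : Letters N) {p : Fin N} {m : ℕ} {pt ptInv : ℕ → ℕ}

/-- Every point of the orbit is an image under the subgroup of the representative of its orbit. -/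
theorem forest_connect' {lab rep fp fl fd : ℕ → ℕ}
    (hforest : ∀ c, c < m → forestOK' L'.F L'.k m pt lab rep fp fl fd c = true)
    (hpt : ∀ c, c < m → pt c < N) :
    ∀ c, c < m → ∃ s ∈ L'.G, ∃ r y : Fin N, r.1 = pt (rep (lab c)) ∧ y.1 = pt c ∧ s r = y := by
  have key : ∀ d c, fd c = d → c < m →
      ∃ s ∈ L'.G, ∃ r y : Fin N, r.1 = pt (rep (lab c)) ∧ y.1 = pt c ∧ s r = y := by
    intro d
    induction d using Nat.strong_induction_on with
    | _ d ih =>
      intro c hd hc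
      rcases forestOK'_spec (hforest c hc) with h | ⟨h1, h2, h3, h4, h5⟩
      · refine ⟨1, L'.G.one_mem, ⟨pt c, hpt c hc⟩, ⟨pt c, hpt c hc⟩, ?_, rfl, rfl⟩
        simp [h]
      · obtain ⟨s, hs, r, y, hr, hy, e⟩ := ih _ (by omega) (fp c) rfl h1
        rw [h4] at hr
        refine ⟨L'.val (fl c) * s, L'.G.mul_mem (L'.val_mem h2) hs, r, ⟨pt c, hpt c hc⟩, hr, rfl, ?_⟩
        rw [Perm.mul_apply, e]
        apply Fin.ext
        rw [L'.val_apply h2, hy]
        exact h5
  intro c hc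
  exact key _ c rfl hc

/-- The subgroup `S` is maximal, from the forest of its orbits on the orbit of `p`. -/
theorem maximal_of_forest' (hres : LevelResult L.G L'.G p m pt)
    (hinj : ∀ c, c < m → ptInv (pt c) = c) {lab rep fp fl fd : ℕ → ℕ}
    (hforest : ∀ c, c < m → forestOK' L'.F L'.k m pt lab rep fp fl fd c = true)
    (hpt : ∀ c, c < m → pt c < N)
    {nl : ℕ} (hlab : ∀ c, c < m → lab c < nl) (hrep0 : rep 0 = 0) (hp0 : pt 0 = p)
    (tw : ℕ → List ℕ)
    (htw : ∀ i, 0 < i → i < nl → (∀ z ∈ tw i, z < L.k) ∧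
      walk (fun x l => L.F l x) p (tw i) = pt (rep i))
    (cw cd : ℕ → ℕ → ℕ)
    (hconn : ∀ i, 0 < i → i < nl → ∀ j, 0 < j → j < nl → cw i j < m ∧ lab (cw i j) < nl ∧
      cd i (lab (cw i j)) < cd i j ∧
      lab (ptInv (walk (fun x l => L.F l x) (pt (cw i j)) (tw i))) = j)
    (K : Subgroup (Perm (Fin N))) (hSK : L'.G ≤ K) (hKG : K ≤ L.G) (hne : K ≠ L'.G) : K = L.G := by
  have hconnect := forest_connect' L' hforest hpt
  have hexists : ∃ g ∈ K, g ∉ L'.G := by
    by_contra hcon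
    push Not at hcon
    exact hne (le_antisymm hcon hSK)
  obtain ⟨g, hgK, hgS⟩ := hexists
  have hgp : g p ≠ p := fun h => hgS (hres.stab g (hKG hgK) h)
  obtain ⟨c, hc, hcy⟩ := hres.orbit' g (hKG hgK)
  set i := lab c with hi
  obtain ⟨s, hs, r, y, hr, hy, e⟩ := hconnect c hc
  rw [← hi] at hr
  have hyg : y = g p := by
    apply Fin.ext
    rw [hy, hcy]
  have hi0 : 0 < i := by
    rcases Nat.eq_zero_or_pos i with h | h
    · exfalso
      have hr' : r = p := by
        apply Fin.ext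
        rw [hr, h, hrep0, hp0]
      rw [hr', hres.fix s hs, hyg] at e
      exact hgp e.symm
    · exact h
  have hil : i < nl := hlab c hc
  obtain ⟨hw1, hw2⟩ := htw i hi0 hil
  set t := ev L.val (tw i) with ht
  have htG : t ∈ L.G := L.ev_mem hw1
  have htp : t p = r := by
    apply Fin.ext
    rw [ht, L.ev_apply hw1, hw2, hr]
  have htK : t ∈ K := by
    have h1 : (s * t)⁻¹ * g ∈ L'.G := by
      apply hres.stab
      · exact L.G.mul_mem (L.G.inv_mem (L.G.mul_mem (hres.le hs) htG)) (hKG hgK)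
      · rw [Perm.mul_apply, Perm.inv_eq_iff_eq, Perm.mul_apply, htp, e, hyg]
    have h2 : s * t ∈ K := by
      have h3 := K.mul_mem hgK (K.inv_mem (hSK h1))
      have h4 : g * ((s * t)⁻¹ * g)⁻¹ = s * t := by group
      rwa [h4] at h3
    have h5 := K.mul_mem (K.inv_mem (hSK hs)) h2
    rwa [inv_mul_cancel_left] at h5
  -- all the representatives are in the orbit
  have hreps : ∀ d j, cd i j = d → j < nl → ∃ a ∈ K, ((a p : Fin N) : ℕ) = pt (rep j) := by
    intro d
    induction d using Nat.strong_induction_on with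
    | _ d ih =>
      intro j hd hj
      rcases Nat.eq_zero_or_pos j with rfl | hj0
      · exact ⟨1, K.one_mem, by simp [hrep0, hp0]⟩
      · obtain ⟨h0, h1, h2, h3⟩ := hconn i hi0 hil j hj0 hj
        obtain ⟨a, ha, ea⟩ := ih _ (by omega) (lab (cw i j)) rfl h1
        obtain ⟨s₁, hs₁, r₁, y₁, hr₁, hy₁, e₁⟩ := hconnect _ h0
        have h4 : a p = r₁ := by
          apply Fin.ext
          rw [ea, hr₁]
        have hmem : t * (s₁ * a) ∈ K := K.mul_mem htK (K.mul_mem (hSK hs₁) ha)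
        obtain ⟨c₂, hc₂, e₂⟩ := hres.orbit' _ (hKG hmem)
        have h5 : (((t * (s₁ * a)) p : Fin N) : ℕ) =
            walk (fun x l => L.F l x) (pt (cw i j)) (tw i) := by
          rw [Perm.mul_apply, Perm.mul_apply, h4, e₁, ht, L.ev_apply hw1, hy₁]
        have h6 : lab c₂ = j := by
          have h7 := h3
          rw [← h5, e₂, hinj c₂ hc₂] at h7
          exact h7
        obtain ⟨s', hs', r', y', hr', hy', e'⟩ := hconnect c₂ hc₂
        rw [h6] at hr'
        have h8 : y' = (t * (s₁ * a)) p := by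
          apply Fin.ext
          rw [hy', e₂]
        refine ⟨s'⁻¹ * (t * (s₁ * a)), K.mul_mem (K.inv_mem (hSK hs')) hmem, ?_⟩
        have h9 : s'⁻¹ ((t * (s₁ * a)) p) = r' := by rw [Perm.inv_eq_iff_eq, e', h8]
        rw [Perm.mul_apply, h9, hr']
  apply le_antisymm hKG
  intro h hh
  obtain ⟨c₃, hc₃, e₃⟩ := hres.orbit' h hh
  obtain ⟨s₃, hs₃, r₃, y₃, hr₃, hy₃, e₄⟩ := hconnect c₃ hc₃
  obtain ⟨a, ha, ea⟩ := hreps _ (lab c₃) rfl (hlab c₃ hc₃)
  have h4 : a p = r₃ := by
    apply Fin.ext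
    rw [ea, hr₃]
  have h5 : (s₃ * a) p = h p := by
    rw [Perm.mul_apply, h4, e₄]
    apply Fin.ext
    rw [hy₃, e₃]
  have hm : s₃ * a ∈ K := K.mul_mem (hSK hs₃) ha
  have h1 : (s₃ * a)⁻¹ * h ∈ L'.G := by
    apply hres.stab
    · exact L.G.mul_mem (L.G.inv_mem (hKG hm)) hh
    · rw [Perm.mul_apply, Perm.inv_eq_iff_eq, h5]
  have h2 := K.mul_mem hm (hSK h1)
  rwa [mul_inv_cancel_left] at h2

end Forest

/-! ### Simplicity -/

section Simple

/-- A group with a maximal subgroup with trivial core, generated by elements of orders prime to the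
order of the subgroup, is simple. -/
theorem isSimple_of_maximal_coprime' {G : Type*} [Group G] [Finite G] [Nontrivial G] (S : Subgroup G)
    (hmax : ∀ K : Subgroup G, S ≤ K → K = S ∨ K = ⊤)
    (hcore : ∀ M : Subgroup G, M.Normal → M ≤ S → M = ⊥)
    (hgen : ∀ M : Subgroup G, (∀ (x : G) (q : ℕ), (Nat.card S).Coprime q → x ^ q = 1 → x ∈ M) → M = ⊤) :
    IsSimpleGroup G := by
  refine ⟨fun M hM => ?_⟩
  by_cases hbot : M = ⊥
  · exact Or.inl hbot
  right
  have hSM : S ⊔ M = ⊤ := by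
    rcases hmax (S ⊔ M) le_sup_left with h | h
    · exfalso
      apply hbot
      apply hcore M hM
      rw [← h]
      exact le_sup_right
    · exact h
  have hsurj : Function.Surjective ((QuotientGroup.mk' M).comp S.subtype) := by
    intro x
    obtain ⟨g, rfl⟩ := QuotientGroup.mk'_surjective M x
    have hg : g ∈ ((S ⊔ M : Subgroup G) : Set G) := by rw [hSM]; trivial
    rw [Subgroup.mul_normal] at hg
    obtain ⟨s, hs, m, hm, rfl⟩ := Set.mem_mul.1 hg
    refine ⟨⟨s, hs⟩, ?_⟩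
    simp only [MonoidHom.comp_apply, Subgroup.subtype_apply]
    rw [map_mul]
    have : QuotientGroup.mk' M m = 1 := (QuotientGroup.eq_one_iff m).2 hm
    rw [this, mul_one]
  have hdvd : Nat.card (G ⧸ M) ∣ Nat.card S := Subgroup.card_dvd_of_surjective _ hsurj
  apply hgen
  intro x q hq hx
  have hq' : (Nat.card (G ⧸ M)).Coprime q := Nat.Coprime.coprime_dvd_left hdvd hq
  have h2 : orderOf (QuotientGroup.mk' M x) ∣ Nat.card (G ⧸ M) := orderOf_dvd_natCard _
  have h3 : orderOf (QuotientGroup.mk' M x) ∣ q := by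
    apply orderOf_dvd_of_pow_eq_one
    rw [← map_pow, hx, map_one]
  have h4 : orderOf (QuotientGroup.mk' M x) = 1 := Nat.eq_one_of_dvd_coprimes hq' h2 h3
  exact (QuotientGroup.eq_one_iff x).1 (orderOf_eq_one_iff.1 h4)

variable {N : ℕ} (L L' : Letters N) {p : Fin N} {m : ℕ} {pt : ℕ → ℕ}

/-- Simplicity for a level: the letters are products of two words of orders prime to the order of the
stabiliser. -/
theorem isSimple_of_level' (hres : LevelResult L.G L'.G p m pt)
    (hfaith : ∀ g ∈ L.G, (∀ h ∈ L.G, g (h p) = h p) → g = 1)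
    (hmax : ∀ K : Subgroup (Perm (Fin N)), L'.G ≤ K → K ≤ L.G → K ≠ L'.G → K = L.G)
    (hcard : 1 < Nat.card L.G)
    (xs : List (List ℕ × ℕ))
    (hxs : ∀ x ∈ xs, (∀ z ∈ x.1, z < L.k) ∧ (Nat.card L'.G).Coprime x.2 ∧ (ev L.val x.1) ^ x.2 = 1)
    (hlet : ∀ l, l < L.k → ∃ u ∈ xs, ∃ v ∈ xs, L.val l = ev L.val (u.1 ++ v.1)) :
    IsSimpleGroup L.G := by
  have : Nontrivial L.G := (Finite.one_lt_card_iff_nontrivial).1 hcard
  set S : Subgroup L.G := L'.G.subgroupOf L.G with hS
  have hcardS : Nat.card S = Nat.card L'.G :=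
    Nat.card_congr (Subgroup.subgroupOfEquivOfLe hres.le).toEquiv
  refine isSimple_of_maximal_coprime' S ?_ ?_ ?_
  · -- maximality
    intro K hK
    by_cases h : K = S
    · exact Or.inl h
    right
    have h1 : L'.G ≤ K.map L.G.subtype := by
      intro s hs
      exact ⟨⟨s, hres.le hs⟩, hK (by rw [hS, Subgroup.mem_subgroupOf]; exact hs), rfl⟩
    have h5 : K.map L.G.subtype ≤ L.G := by
      rintro _ ⟨x, _, rfl⟩
      exact x.2
    have h6 : K.map L.G.subtype ≠ L'.G := by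
      intro h7
      apply h
      apply le_antisymm _ hK
      intro x hx
      rw [hS, Subgroup.mem_subgroupOf, ← h7]
      exact ⟨x, hx, rfl⟩
    have h8 := hmax _ h1 h5 h6
    rw [eq_top_iff]
    intro x _
    have h9 : (x : Perm (Fin N)) ∈ K.map L.G.subtype := by rw [h8]; exact x.2
    obtain ⟨y, hy, hyx⟩ := h9
    have : y = x := Subtype.ext hyx
    rwa [← this]
  · -- the core
    intro M hM hle
    rw [eq_bot_iff]
    intro x hx
    rw [Subgroup.mem_bot]
    apply Subtype.ext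
    apply hfaith _ x.2
    intro g hg
    have h5 : (⟨g, hg⟩ : L.G)⁻¹ * x * ⟨g, hg⟩ ∈ M := by
      have := hM.conj_mem x hx (⟨g, hg⟩ : L.G)⁻¹
      simpa using this
    have h6 := hle h5
    rw [hS, Subgroup.mem_subgroupOf] at h6
    have h7 := hres.fix _ h6
    have h9 : (((⟨g, hg⟩ : L.G)⁻¹ * x * ⟨g, hg⟩ : L.G) : Perm (Fin N)) = g⁻¹ * x * g := rfl
    rw [h9, Perm.mul_apply, Perm.mul_apply, Perm.inv_eq_iff_eq] at h7
    exact h7
  · -- the generators
    intro M hM
    rw [eq_top_iff, ← L.closure_E, Subgroup.closure_le]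
    rintro _ ⟨c, hc, rfl⟩
    obtain ⟨u, hu, v, hv, e⟩ := hlet c hc
    have hw : ∀ x (hx : x ∈ xs), (⟨ev L.val x.1, L.ev_mem (hxs x hx).1⟩ : L.G) ∈ M := by
      intro x hx
      obtain ⟨h1, h2, h3⟩ := hxs x hx
      apply hM _ x.2 (by rw [hcardS]; exact h2)
      apply Subtype.ext
      rw [Subgroup.coe_pow]
      exact h3
    have h1 := hw u hu
    have h2 := hw v hv
    have h3 := M.mul_mem h2 h1
    have h4 : L.E c = (⟨ev L.val v.1, L.ev_mem (hxs v hv).1⟩ : L.G) *
        ⟨ev L.val u.1, L.ev_mem (hxs u hu).1⟩ := by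
      apply Subtype.ext
      rw [L.E_coe hc, e, ev_append]
      rfl
    rw [SetLike.mem_coe, h4]
    exact h3

end Simple

/-! ### Helpers for the generated files -/

theorem Letters.eq_one_of_k_eq_zero {N : ℕ} (L : Letters N) (h : L.k = 0) {g : Perm (Fin N)}
    (hg : g ∈ L.G) : g = 1 := by
  have h1 : L.G = ⊥ := by
    rw [eq_bot_iff]
    apply L.G_le_of_val
    intro l hl
    omega
  rw [h1] at hg
  exact Subgroup.mem_bot.1 hg

/-- The words of a list of elements of coprime orders. -/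
theorem hxs_of {N : ℕ} (L : Letters N) {rels : List (List ℕ)} (hrel : ∀ l ∈ rels, ev L.val l = 1)
    {c : ℕ} (xs : List (List ℕ × ℕ))
    (h : ∀ x ∈ xs, (∀ z ∈ x.1, z < L.k) ∧ c.Coprime x.2 ∧ (List.replicate x.2 x.1).flatten ∈ rels) :
    ∀ x ∈ xs, (∀ z ∈ x.1, z < L.k) ∧ c.Coprime x.2 ∧ (ev L.val x.1) ^ x.2 = 1 := by
  intro x hx
  obtain ⟨h1, h2, h3⟩ := h x hx
  refine ⟨h1, h2, ?_⟩
  rw [← ev_flatten_replicate]
  exact hrel _ h3

/-- The letters as products of two words of the list. -/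
theorem hlet_of {N : ℕ} (L : Letters N) {lw : List (List ℕ)} (hlen : lw.length = L.k)
    (hw : ∀ l ∈ lw, ∀ z ∈ l, z < L.k)
    (hval : ∀ x, x < N → wordIs L.F L.F lw x 0 = true) (xs : List (List ℕ × ℕ))
    (h : ∀ l, l < L.k → ∃ u ∈ xs, ∃ v ∈ xs, lw.getD l [] = u.1 ++ v.1) :
    ∀ l, l < L.k → ∃ u ∈ xs, ∃ v ∈ xs, L.val l = ev L.val (u.1 ++ v.1) := by
  intro l hl
  obtain ⟨u, hu, v, hv, e⟩ := h l hl
  refine ⟨u, hu, v, hv, ?_⟩
  rw [← e]
  have hl' : l < lw.length := by omega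
  rw [List.getD_eq_getElem _ _ hl']
  symm
  refine L.ev_eq_val L (hw _ (List.getElem_mem hl')) hl (fun x hx => ?_)
  have := wordIs_spec (hval x hx) l hl'
  rw [zero_add] at this
  exact this

/-- A subgroup of a stabiliser from a group of permutations. -/
theorem exists_subgroup_of_stabilizer {N : ℕ} {H T : Subgroup (Perm (Fin N))} {p : Fin N}
    (hle : T ≤ H) (hfix : ∀ g ∈ T, g p = p) :
    ∃ T' : Subgroup (MulAction.stabilizer H p), Nonempty (T' ≃* T) := by
  refine ⟨T.comap (H.subtype.comp (MulAction.stabilizer H p).subtype), ⟨?_⟩⟩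
  exact
    { toFun := fun g => ⟨g.1.1.1, g.2⟩
      invFun := fun t => ⟨⟨⟨t.1, hle t.2⟩, by
        rw [MulAction.mem_stabilizer_iff]
        exact hfix _ t.2⟩, t.2⟩
      left_inv := fun g => rfl
      right_inv := fun t => rfl
      map_mul' := fun a b => rfl }

/-- A subgroup generated by letters lies in a group, from the words of its letters. -/
theorem Letters.G_le_of_words {N : ℕ} (L L' : Letters N) {lw : List (List ℕ)}
    (hw : ∀ l ∈ lw, ∀ z ∈ l, z < L.k)
    (hval : ∀ x, x < N → wordIs L.F L'.F lw x 0 = true)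
    (hlen : lw.length ≤ L'.k)
    (hlet : ∀ l, l < L'.k → l < lw.length ∨ L'.inv l < lw.length) : L'.G ≤ L.G := by
  apply L'.G_le_of_val
  have h1 : ∀ j (hj : j < lw.length), L'.val j ∈ L.G := by
    intro j hj
    have h2 : ev L.val lw[j] = L'.val j := by
      refine L.ev_eq_val L' (hw _ (List.getElem_mem hj)) (by omega) (fun x hx => ?_)
      have := wordIs_spec (hval x hx) j hj
      rw [zero_add] at this
      exact this
    rw [← h2]
    exact L.ev_mem (hw _ (List.getElem_mem hj))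
  intro l hl
  rcases hlet l hl with h | h
  · exact h1 l h
  · have h3 := L'.val_inv hl
    have h4 : L'.val l = (L'.val (L'.inv l))⁻¹ := by rw [h3, _root_.inv_inv]
    rw [h4]
    exact L.G.inv_mem (h1 _ h)

/-- The faithfulness on the orbit for a transitive group. -/
theorem faith_of_transitive {N : ℕ} {G : Subgroup (Perm (Fin N))} {p : Fin N}
    (h : ∀ x : Fin N, ∃ g ∈ G, g p = x) :
    ∀ g ∈ G, (∀ h ∈ G, g (h p) = h p) → g = 1 := by
  intro g _ hg
  ext x
  obtain ⟨a, ha, rfl⟩ := h x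
  rw [hg a ha]
  rfl

end Cfsg.Agent.Lib.CosetCert
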