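import Mathlib

/-!
# Static coset certificates for explicit permutation groups

The data of a *level* is: a group `G = ⟨val l | l < k⟩` of permutations of `Fin N`, a subgroup
`S = ⟨val' s | s < k'⟩`, a point `p`, the list `pt 0 = p, pt 1, …, pt (m-1)` of the points of its
orbit, and a table `T c l` for the action of the letters on the orbit.  If every Schreier generator
`(γ (T c l))⁻¹ * val l * γ c` lies in `S`, then `S` is the stabiliser of `p` in `G`, so that
`|G| = m * |S|`.

The Schreier generators are dealt with by a *static* deduction certificate: every entry `(c, l)` of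
the table has a time stamp and a justification which only uses entries with a smaller stamp.  A
justification is a relator (a word which evaluates to `1`) or a generator of `S`, written as a word
in the letters of `G`.  Nothing in the certificate is mutable, so that it can be checked in
independent chunks by the kernel.

The semantic of all the tables is that of arbitrary functions `ℕ → ℕ`: the kernel evaluates them and
no arithmetic laws are used.
-/

namespace Cfsg.Agent.Lib.CosetCert

open Equiv

universe u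

/-! ### Loops for the kernel -/

/-- All `p x` for `x ∈ [lo, lo + 2 ^ d)`: binary splitting, so that the kernel recursion depth stays
small. -/
noncomputable def allR (p : ℕ → Bool) (d lo : ℕ) : Bool :=
  Nat.rec (motive := fun _ => ℕ → Bool) (fun lo => p lo)
    (fun d' ih lo => Bool.rec false (ih (Nat.add lo (Nat.shiftLeft 1 d'))) (ih lo)) d lo

theorem allR_zero (p : ℕ → Bool) (lo : ℕ) : allR p 0 lo = p lo := rfl

theorem allR_succ (p : ℕ → Bool) (d lo : ℕ) :
    allR p (d + 1) lo = Bool.rec false (allR p d (Nat.add lo (Nat.shiftLeft 1 d))) (allR p d lo) :=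
  rfl

theorem allR_spec {p : ℕ → Bool} {d lo : ℕ} (h : allR p d lo = true) :
    ∀ x, lo ≤ x → x < lo + 2 ^ d → p x = true := by
  induction d generalizing lo with
  | zero =>
    intro x h1 h2
    have : x = lo := by omega
    subst this
    simpa [allR_zero] using h
  | succ d ih =>
    intro x h1 h2
    rw [allR_succ] at h
    cases h0 : allR p d lo with
    | false => rw [h0] at h; exact absurd h (by simp)
    | true =>
      rw [h0] at h
      have h3 : allR p d (Nat.add lo (Nat.shiftLeft 1 d)) = true := h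
      have h4 : Nat.shiftLeft 1 d = 2 ^ d := by
        have : (Nat.shiftLeft 1 d) = 1 <<< d := rfl
        rw [this, Nat.one_shiftLeft]
      by_cases hx : x < lo + 2 ^ d
      · exact ih h0 x h1 hx
      · refine ih h3 x ?_ ?_
        · show lo + Nat.shiftLeft 1 d ≤ x
          rw [h4]; omega
        · show x < lo + Nat.shiftLeft 1 d + 2 ^ d
          rw [h4]; rw [pow_succ] at h2; omega

/-- Combine two adjacent chunks. -/
theorem allR_node {p : ℕ → Bool} {d lo mid : ℕ} (hmid : mid = Nat.add lo (Nat.shiftLeft 1 d))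
    (h1 : allR p d lo = true) (h2 : allR p d mid = true) : allR p (d + 1) lo = true := by
  subst hmid
  rw [allR_succ, h1]
  exact h2

/-- A guard: `p` is only needed below `n`. -/
noncomputable def guard (n : ℕ) (p : ℕ → Bool) (x : ℕ) : Bool :=
  Bool.rec (p x) true (Nat.ble n x)

theorem guard_spec {n : ℕ} {p : ℕ → Bool} {x : ℕ} (h : guard n p x = true) (hx : x < n) :
    p x = true := by
  have h' : Nat.ble n x = false := by
    cases h0 : Nat.ble n x with
    | false => rfl
    | true => have := Nat.le_of_ble_eq_true h0; omega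
  unfold guard at h
  rw [h'] at h
  exact h

/-- The standard form of a complete check: all `x < n` satisfy `p`, as soon as `n ≤ 2 ^ d`. -/
theorem all_of_allR {p : ℕ → Bool} {n d : ℕ} (hn : n ≤ 2 ^ d) (h : allR (guard n p) d 0 = true) :
    ∀ x, x < n → p x = true := by
  intro x hx
  refine guard_spec (allR_spec h x (Nat.zero_le _) ?_) hx
  omega

/-- All letters: `p l` for `l < k`. -/
noncomputable def allLt (p : ℕ → Bool) (k : ℕ) : Bool :=
  Nat.rec (motive := fun _ => Bool) true (fun l ih => Bool.rec false ih (p l)) k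

theorem allLt_spec {p : ℕ → Bool} {k : ℕ} (h : allLt p k = true) : ∀ l, l < k → p l = true := by
  induction k with
  | zero => intro l hl; omega
  | succ k ih =>
    have h1 : allLt p (k + 1) = Bool.rec false (allLt p k) (p k) := rfl
    rw [h1] at h
    cases h0 : p k with
    | false => rw [h0] at h; exact absurd h (by simp)
    | true =>
      rw [h0] at h
      have h2 : allLt p k = true := h
      intro l hl
      by_cases hlk : l = k
      · subst hlk; exact h0
      · exact ih h2 l (by omega)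

/-! ### Words in a group -/

section Words

variable {Γ : Type*} [Group Γ]

/-- The value of a word: the first letter acts first, that is `ev [l₁, …, lₙ] = val lₙ * ⋯ * val l₁`. -/
def ev (val : ℕ → Γ) : List ℕ → Γ
  | [] => 1
  | l :: w => ev val w * val l

@[simp] theorem ev_nil (val : ℕ → Γ) : ev val [] = 1 := rfl

@[simp] theorem ev_cons (val : ℕ → Γ) (l : ℕ) (w : List ℕ) : ev val (l :: w) = ev val w * val l :=
  rfl

theorem ev_append (val : ℕ → Γ) (w₁ w₂ : List ℕ) : ev val (w₁ ++ w₂) = ev val w₂ * ev val w₁ := by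
  induction w₁ with
  | nil => simp
  | cons l w ih => simp [ih, mul_assoc]

/-- A relator stays a relator under a rotation. -/
theorem ev_rotate_eq_one (val : ℕ → Γ) {w : List ℕ} (h : ev val w = 1) (n : ℕ) :
    ev val (w.rotate n) = 1 := by
  have key : ∀ (a b : List ℕ), ev val (a ++ b) = 1 → ev val (b ++ a) = 1 := by
    intro a b hab
    rw [ev_append] at hab ⊢
    exact mul_eq_one_comm.mp hab
  rw [List.rotate_eq_drop_append_take_mod]
  exact key _ _ (by rw [List.take_append_drop]; exact h)

/-- The walk along a table. -/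
def walk (T : ℕ → ℕ → ℕ) : ℕ → List ℕ → ℕ
  | c, [] => c
  | c, l :: w => walk T (T c l) w

@[simp] theorem walk_nil (T : ℕ → ℕ → ℕ) (c : ℕ) : walk T c [] = c := rfl

@[simp] theorem walk_cons (T : ℕ → ℕ → ℕ) (c l : ℕ) (w : List ℕ) :
    walk T c (l :: w) = walk T (T c l) w := rfl

end Words

/-! ### The abstract cover -/

section Cover

variable {Γ : Type*} [Group Γ] (val : ℕ → Γ) (T : ℕ → ℕ → ℕ) (γ : ℕ → Γ) (S : Subgroup Γ)

/-- The Schreier generator of the entry `(c, l)` lies in `S`. -/
def Claim (c l : ℕ) : Prop := (γ (T c l))⁻¹ * val l * γ c ∈ S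

variable {val T γ S}

/-- The product over a path. -/
theorem claim_cons {l c : ℕ} {w : List ℕ} (h1 : Claim val T γ S c l)
    (h2 : (γ (walk T (T c l) w))⁻¹ * ev val w * γ (T c l) ∈ S) :
    (γ (walk T c (l :: w)))⁻¹ * ev val (l :: w) * γ c ∈ S := by
  have h3 := S.mul_mem h2 h1
  have e : (γ (walk T (T c l) w))⁻¹ * ev val w * γ (T c l) * ((γ (T c l))⁻¹ * val l * γ c)
      = (γ (walk T c (l :: w)))⁻¹ * ev val (l :: w) * γ c := by
    simp only [walk_cons, ev_cons]; group
  rwa [e] at h3

/-- A path with known end points, inside `S`, gives the claim of the entry in its middle. -/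
theorem claim_of_split {b c d l : ℕ} {p q : List ℕ} (hd : T c l = d)
    (h : (γ b)⁻¹ * ev val (p ++ l :: q) * γ b ∈ S)
    (h1 : (γ c)⁻¹ * ev val p * γ b ∈ S)
    (h2 : (γ b)⁻¹ * ev val q * γ d ∈ S) : Claim val T γ S c l := by
  have h3 := S.mul_mem (S.mul_mem (S.inv_mem h2) h) (S.inv_mem h1)
  have e : ((γ b)⁻¹ * ev val q * γ d)⁻¹ * ((γ b)⁻¹ * ev val (p ++ l :: q) * γ b) *
      ((γ c)⁻¹ * ev val p * γ b)⁻¹ = (γ (T c l))⁻¹ * val l * γ c := by
    rw [hd, ev_append, ev_cons]; group
  unfold Claim
  rwa [e] at h3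

/-- The cover: as soon as all Schreier generators are in `S`, the elements of the group generated by
the letters lie in the cosets `γ c * S`. -/
theorem cover_of_claims {k m : ℕ} {inv : ℕ → ℕ} (hm : 0 < m) (h0 : γ 0 = 1)
    (hinv : ∀ l, l < k → inv l < k ∧ val (inv l) = (val l)⁻¹)
    (hT : ∀ c, c < m → ∀ l, l < k → T c l < m)
    (hc : ∀ c, c < m → ∀ l, l < k → Claim val T γ S c l) :
    ∀ g ∈ Subgroup.closure {g | ∃ l, l < k ∧ g = val l}, ∃ c, c < m ∧ (γ c)⁻¹ * g ∈ S := by
  intro g hg
  induction hg using Subgroup.closure_induction_left with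
  | one => exact ⟨0, hm, by simp [h0, S.one_mem]⟩
  | mul_left x hx y hy ih =>
    obtain ⟨l, hl, rfl⟩ := hx
    obtain ⟨c, hcm, hcS⟩ := ih
    refine ⟨T c l, hT c hcm l hl, ?_⟩
    have := S.mul_mem (hc c hcm l hl) hcS
    have e : (γ (T c l))⁻¹ * val l * γ c * ((γ c)⁻¹ * y) = (γ (T c l))⁻¹ * (val l * y) := by group
    rwa [e] at this
  | inv_mul_cancel x hx y hy ih =>
    obtain ⟨l, hl, rfl⟩ := hx
    obtain ⟨c, hcm, hcS⟩ := ih
    obtain ⟨hil, hvl⟩ := hinv l hl
    refine ⟨T c (inv l), hT c hcm _ hil, ?_⟩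
    have := S.mul_mem (hc c hcm _ hil) hcS
    have e : (γ (T c (inv l)))⁻¹ * val (inv l) * γ c * ((γ c)⁻¹ * y)
        = (γ (T c (inv l)))⁻¹ * ((val l)⁻¹ * y) := by rw [hvl]; group
    rwa [e] at this

end Cover

/-! ### The transversal from the tree -/

section Tree

variable {Γ : Type*} [Group Γ]

/-- The transversal defined by the parent pointers `Tp` and the letters `Tl`. -/
noncomputable def gammaOf (val : ℕ → Γ) (Tp Tl : ℕ → ℕ) : ℕ → Γ := fun c =>
  Nat.strongRecOn c (fun c ih =>
    if h : 0 < c ∧ Tp c < c then val (Tl c) * ih (Tp c) h.2 else 1)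

theorem gammaOf_zero (val : ℕ → Γ) (Tp Tl : ℕ → ℕ) : gammaOf val Tp Tl 0 = 1 := by
  unfold gammaOf
  rw [Nat.strongRecOn_eq]
  simp

theorem gammaOf_pos (val : ℕ → Γ) (Tp Tl : ℕ → ℕ) {c : ℕ} (h0 : 0 < c) (h1 : Tp c < c) :
    gammaOf val Tp Tl c = val (Tl c) * gammaOf val Tp Tl (Tp c) := by
  unfold gammaOf
  rw [Nat.strongRecOn_eq]
  simp [h0, h1]

end Tree

/-! ### Kernel-side scan -/

/-- Strict and: `t` is only evaluated if `c` is `true`. -/
noncomputable def ifB (c t : Bool) : Bool := Bool.rec false t c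

@[simp] theorem ifB_eq_true (c t : Bool) : ifB c t = true ↔ c = true ∧ t = true := by
  cases c <;> simp [ifB]

/-- The walk along a word starting at `x`, with a check that all time stamps are smaller than `t`;
the end point is given to `k`.  The table `E l x` packs the target (bits under `mask`) and the time
stamp (bits from `b` on). -/
noncomputable def scan (E : ℕ → ℕ → ℕ) (mask b t : ℕ) (k : ℕ → Bool) (w : List ℕ) (x : ℕ) : Bool :=
  List.rec (motive := fun _ => ℕ → Bool) (fun x => k x)
    (fun l _ ih x =>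
      Bool.rec (ih (Nat.land (E l x) mask)) false (Nat.ble t (Nat.shiftRight (E l x) b))) w x

theorem scan_nil (E : ℕ → ℕ → ℕ) (mask b t : ℕ) (k : ℕ → Bool) (x : ℕ) :
    scan E mask b t k [] x = k x := rfl

theorem scan_cons (E : ℕ → ℕ → ℕ) (mask b t : ℕ) (k : ℕ → Bool) (l : ℕ) (w : List ℕ) (x : ℕ) :
    scan E mask b t k (l :: w) x =
      Bool.rec (scan E mask b t k w (Nat.land (E l x) mask)) false
        (Nat.ble t (Nat.shiftRight (E l x) b)) := rfl

/-- The check of one entry of the table.  The code `J l c` is `4 * idx + kind`: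
* kind 0: the entry is a tree edge;
* kind 1: the entry is the inverse of an entry with a smaller stamp;
* kind 2: the word `rotH idx :: rotR idx` is a relator starting with the letter of the entry;
* kind 3: the word `subP idx ++ subH idx :: subS idx` is (a generator of) the subgroup, read at the
  root. -/
noncomputable def checkEntry (E : ℕ → ℕ → ℕ) (mask b : ℕ) (J : ℕ → ℕ → ℕ) (Tp Tl inv : ℕ → ℕ)
    (nrot : ℕ) (rotH : ℕ → ℕ) (rotR : ℕ → List ℕ)
    (nsub : ℕ) (subH : ℕ → ℕ) (subP subS : ℕ → List ℕ) (c l : ℕ) : Bool :=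
  Bool.rec
    (Bool.rec
      (ifB (Nat.ble 1 (Nat.land (E l c) mask))
        (ifB (Nat.beq (Tp (Nat.land (E l c) mask)) c) (Nat.beq (Tl (Nat.land (E l c) mask)) l)))
      (scan E mask b (Nat.shiftRight (E l c) b) (fun y => Nat.beq y c) [inv l]
        (Nat.land (E l c) mask))
      (Nat.beq (Nat.land (J l c) 1) 1))
    (Bool.rec
      (ifB (Nat.ble (Nat.succ (Nat.shiftRight (J l c) 2)) nrot)
        (ifB (Nat.beq (rotH (Nat.shiftRight (J l c) 2)) l)
          (scan E mask b (Nat.shiftRight (E l c) b) (fun y => Nat.beq y c)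
            (rotR (Nat.shiftRight (J l c) 2)) (Nat.land (E l c) mask))))
      (ifB (Nat.ble (Nat.succ (Nat.shiftRight (J l c) 2)) nsub)
        (ifB (Nat.beq (subH (Nat.shiftRight (J l c) 2)) l)
          (ifB (scan E mask b (Nat.shiftRight (E l c) b) (fun y => Nat.beq y c)
                (subP (Nat.shiftRight (J l c) 2)) 0)
            (scan E mask b (Nat.shiftRight (E l c) b) (fun y => Nat.beq y 0)
                (subS (Nat.shiftRight (J l c) 2)) (Nat.land (E l c) mask)))))
      (Nat.beq (Nat.land (J l c) 1) 1))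
    (Nat.beq (Nat.land (J l c) 2) 2)

/-! ### Soundness of the certificate -/

section Sound

variable {Γ : Type*} [Group Γ] {val : ℕ → Γ} {S : Subgroup Γ}
  {E : ℕ → ℕ → ℕ} {mask b : ℕ} {J : ℕ → ℕ → ℕ} {Tp Tl inv : ℕ → ℕ}
  {nrot : ℕ} {rotH : ℕ → ℕ} {rotR : ℕ → List ℕ}
  {nsub : ℕ} {subH : ℕ → ℕ} {subP subS : ℕ → List ℕ} {k m : ℕ}

/-- The walk in a scan stays in range and yields the Schreier element of the path. -/
theorem scan_sound {γ : ℕ → Γ} {t : ℕ} {K : ℕ → Bool}
    (hT : ∀ c, c < m → ∀ l, l < k → Nat.land (E l c) mask < m)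
    (IH : ∀ c, c < m → ∀ l, l < k → Nat.shiftRight (E l c) b < t →
      Claim val (fun c l => Nat.land (E l c) mask) γ S c l)
    {w : List ℕ} (hw : ∀ l ∈ w, l < k) {x : ℕ} (hx : x < m)
    (h : scan E mask b t K w x = true) :
    K (walk (fun c l => Nat.land (E l c) mask) x w) = true ∧
    walk (fun c l => Nat.land (E l c) mask) x w < m ∧
    (γ (walk (fun c l => Nat.land (E l c) mask) x w))⁻¹ * ev val w * γ x ∈ S := by
  induction w generalizing x with
  | nil =>
    refine ⟨h, hx, ?_⟩
    simp [S.one_mem]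
  | cons l w ih =>
    rw [scan_cons] at h
    cases hle : Nat.ble t (Nat.shiftRight (E l x) b) with
    | true => rw [hle] at h; exact absurd h (by simp)
    | false =>
      rw [hle] at h
      have hlk : l < k := hw l (by simp)
      have hlt : Nat.shiftRight (E l x) b < t := by
        by_contra hcon
        have : Nat.ble t (Nat.shiftRight (E l x) b) = true :=
          Nat.ble_eq_true_of_le (by omega)
        rw [hle] at this
        exact absurd this (by simp)
      obtain ⟨h1, h2, h3⟩ := ih (fun l' hl' => hw l' (by simp [hl'])) (hT x hx l hlk) h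
      refine ⟨h1, h2, ?_⟩
      exact claim_cons (IH x hx l hlk hlt) h3

/-- All the entries are justified, so that all the Schreier generators lie in `S`. -/
theorem claims_of_check {γ : ℕ → Γ}
    (hT : ∀ c, c < m → ∀ l, l < k → Nat.land (E l c) mask < m)
    (hγ0 : γ 0 = 1)
    (hγ : ∀ d, 0 < d → d < m → γ d = val (Tl d) * γ (Tp d))
    (hm : 0 < m)
    (hinv : ∀ l, l < k → inv l < k ∧ val (inv l) = (val l)⁻¹)
    (hrot : ∀ i, i < nrot → ev val (rotH i :: rotR i) = 1 ∧ ∀ l ∈ rotR i, l < k)
    (hsub : ∀ i, i < nsub → ev val (subP i ++ subH i :: subS i) ∈ S ∧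
      (∀ l ∈ subP i, l < k) ∧ ∀ l ∈ subS i, l < k)
    (hchk : ∀ c, c < m → ∀ l, l < k →
      checkEntry E mask b J Tp Tl inv nrot rotH rotR nsub subH subP subS c l = true) :
    ∀ c, c < m → ∀ l, l < k → Claim val (fun c l => Nat.land (E l c) mask) γ S c l := by
  -- strong induction on the time stamp
  have key : ∀ t, ∀ c, c < m → ∀ l, l < k → Nat.shiftRight (E l c) b < t →
      Claim val (fun c l => Nat.land (E l c) mask) γ S c l := by
    intro t
    induction t with
    | zero => intro c _ l _ h; omega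
    | succ t IH =>
      intro c hc l hl htl
      have hle : Nat.shiftRight (E l c) b ≤ t := by omega
      set t₀ := Nat.shiftRight (E l c) b with ht₀
      have IH₀ : ∀ c', c' < m → ∀ l', l' < k → Nat.shiftRight (E l' c') b < t₀ →
          Claim val (fun c l => Nat.land (E l c) mask) γ S c' l' := by
        intro c' hc' l' hl' h'
        exact IH c' hc' l' hl' (by omega)
      have hchk' := hchk c hc l hl
      unfold checkEntry at hchk'
      rw [← ht₀] at hchk'
      set d := Nat.land (E l c) mask with hd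
      have hdm : d < m := hT c hc l hl
      set j := J l c with hj
      cases h2 : Nat.beq (Nat.land j 2) 2 <;> cases h1 : Nat.beq (Nat.land j 1) 1 <;>
        rw [h2] at hchk' <;> simp only [h1] at hchk'
      · -- kind 0
        have hchk'' : ifB (Nat.ble 1 d) (ifB (Nat.beq (Tp d) c) (Nat.beq (Tl d) l)) = true := hchk'
        rw [ifB_eq_true, ifB_eq_true] at hchk''
        have e0 : 1 ≤ d := Nat.le_of_ble_eq_true hchk''.1
        have e1 : Tp d = c := Nat.eq_of_beq_eq_true hchk''.2.1
        have e2 : Tl d = l := Nat.eq_of_beq_eq_true hchk''.2.2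
        unfold Claim
        show (γ d)⁻¹ * val l * γ c ∈ S
        rw [hγ d e0 hdm, e1, e2]
        have : (val l * γ c)⁻¹ * val l * γ c = 1 := by group
        rw [this]
        exact S.one_mem
      · -- kind 1
        have hchk'' : scan E mask b t₀ (fun y => Nat.beq y c) [inv l] d = true := hchk'
        obtain ⟨hil, hvl⟩ := hinv l hl
        obtain ⟨h3, -, h5⟩ := scan_sound (S := S) (val := val) (γ := γ) hT IH₀
          (w := [inv l]) (by simpa using hil) hdm hchk''
        have h6 : walk (fun c l => Nat.land (E l c) mask) d [inv l] = c :=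
          Nat.eq_of_beq_eq_true h3
        rw [h6] at h5
        have h7 := S.inv_mem h5
        unfold Claim
        show (γ d)⁻¹ * val l * γ c ∈ S
        have e : ((γ c)⁻¹ * ev val [inv l] * γ d)⁻¹ = (γ d)⁻¹ * val l * γ c := by
          simp only [ev_cons, ev_nil, one_mul, hvl]; group
        rwa [e] at h7
      · -- kind 2
        have hchk'' : ifB (Nat.ble (Nat.succ (Nat.shiftRight j 2)) nrot)
          (ifB (Nat.beq (rotH (Nat.shiftRight j 2)) l)
            (scan E mask b t₀ (fun y => Nat.beq y c) (rotR (Nat.shiftRight j 2)) d)) = true := hchk'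
        rw [ifB_eq_true, ifB_eq_true] at hchk''
        have e0 : Nat.shiftRight j 2 < nrot := Nat.le_of_ble_eq_true hchk''.1
        have e1 : rotH (Nat.shiftRight j 2) = l := Nat.eq_of_beq_eq_true hchk''.2.1
        obtain ⟨hr1, hr2⟩ := hrot _ e0
        rw [e1] at hr1
        obtain ⟨h3, -, h5⟩ := scan_sound (S := S) (val := val) (γ := γ) hT IH₀ hr2 hdm hchk''.2.2
        have h6 : walk (fun c l => Nat.land (E l c) mask) d (rotR (Nat.shiftRight j 2)) = c :=
          Nat.eq_of_beq_eq_true h3
        rw [h6] at h5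
        have h7 := S.inv_mem h5
        unfold Claim
        show (γ d)⁻¹ * val l * γ c ∈ S
        rw [ev_cons] at hr1
        have hl' : val l = (ev val (rotR (Nat.shiftRight j 2)))⁻¹ := eq_inv_of_mul_eq_one_right hr1
        have e : ((γ c)⁻¹ * ev val (rotR (Nat.shiftRight j 2)) * γ d)⁻¹ = (γ d)⁻¹ * val l * γ c := by
          rw [hl']; group
        rwa [e] at h7
      · -- kind 3
        have hchk'' : ifB (Nat.ble (Nat.succ (Nat.shiftRight j 2)) nsub)
          (ifB (Nat.beq (subH (Nat.shiftRight j 2)) l)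
            (ifB (scan E mask b t₀ (fun y => Nat.beq y c) (subP (Nat.shiftRight j 2)) 0)
              (scan E mask b t₀ (fun y => Nat.beq y 0) (subS (Nat.shiftRight j 2)) d))) = true := hchk'
        rw [ifB_eq_true, ifB_eq_true, ifB_eq_true] at hchk''
        have e0 : Nat.shiftRight j 2 < nsub := Nat.le_of_ble_eq_true hchk''.1
        have e1 : subH (Nat.shiftRight j 2) = l := Nat.eq_of_beq_eq_true hchk''.2.1
        obtain ⟨hr1, hr2, hr3⟩ := hsub _ e0
        rw [e1] at hr1
        obtain ⟨h3, -, h5⟩ := scan_sound (S := S) (val := val) (γ := γ) hT IH₀ hr2 hm hchk''.2.2.1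
        obtain ⟨h3', -, h5'⟩ := scan_sound (S := S) (val := val) (γ := γ) hT IH₀ hr3 hdm hchk''.2.2.2
        have h6 : walk (fun c l => Nat.land (E l c) mask) 0 (subP (Nat.shiftRight j 2)) = c :=
          Nat.eq_of_beq_eq_true h3
        have h6' : walk (fun c l => Nat.land (E l c) mask) d (subS (Nat.shiftRight j 2)) = 0 :=
          Nat.eq_of_beq_eq_true h3'
        rw [h6] at h5
        rw [h6'] at h5'
        refine claim_of_split (b := 0) (d := d) rfl ?_ h5 h5'
        rw [hγ0]
        simpa using hr1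
  intro c hc l hl
  exact key _ c hc l hl (Nat.lt_succ_self _)

end Sound


/-! ### Letters -/

/-- A finite list of permutations of `Fin N`, closed under inverses, given by functions on `ℕ`. -/
structure Letters (N : ℕ) where
  /-- the number of letters -/
  k : ℕ
  /-- the action of the letters -/
  F : ℕ → ℕ → ℕ
  /-- the inverse letter -/
  inv : ℕ → ℕ
  inv_lt : ∀ l, l < k → inv l < k
  inv_inv : ∀ l, l < k → inv (inv l) = l
  F_lt : ∀ l, l < k → ∀ x, x < N → F l x < N
  F_inv : ∀ l, l < k → ∀ x, x < N → F (inv l) (F l x) = x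

namespace Letters

variable {N : ℕ} (L : Letters N)

/-- The permutation of a letter. -/
def perm (l : ℕ) (hl : l < L.k) : Perm (Fin N) where
  toFun x := ⟨L.F l x, L.F_lt l hl x x.2⟩
  invFun x := ⟨L.F (L.inv l) x, L.F_lt _ (L.inv_lt l hl) x x.2⟩
  left_inv x := Fin.ext (L.F_inv l hl x x.2)
  right_inv x := Fin.ext (by
    have := L.F_inv (L.inv l) (L.inv_lt l hl) x x.2
    rwa [L.inv_inv l hl] at this)

/-- The permutation of a letter, total. -/
noncomputable def val (l : ℕ) : Perm (Fin N) := if h : l < L.k then L.perm l h else 1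

theorem val_apply {l : ℕ} (hl : l < L.k) (x : Fin N) : ((L.val l x : Fin N) : ℕ) = L.F l x := by
  simp [val, hl, perm]

theorem val_inv {l : ℕ} (hl : l < L.k) : L.val (L.inv l) = (L.val l)⁻¹ := by
  rw [eq_inv_iff_mul_eq_one]
  ext x
  simp only [Perm.mul_apply, Perm.one_apply]
  rw [val_apply L (L.inv_lt l hl)]
  rw [val_apply L hl]
  exact L.F_inv l hl x x.2

/-- The group generated by the letters. -/
def G : Subgroup (Perm (Fin N)) := Subgroup.closure {g | ∃ l, l < L.k ∧ g = L.val l}

theorem val_mem {l : ℕ} (hl : l < L.k) : L.val l ∈ L.G := Subgroup.subset_closure ⟨l, hl, rfl⟩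

theorem ev_mem {w : List ℕ} (hw : ∀ l ∈ w, l < L.k) : ev L.val w ∈ L.G := by
  induction w with
  | nil => exact L.G.one_mem
  | cons l w ih =>
    exact L.G.mul_mem (ih fun l' hl' => hw l' (by simp [hl'])) (L.val_mem (hw l (by simp)))

/-- The value of a word at a point is given by the walk. -/
theorem ev_apply {w : List ℕ} (hw : ∀ l ∈ w, l < L.k) (x : Fin N) :
    ((ev L.val w x : Fin N) : ℕ) = walk (fun x l => L.F l x) x w := by
  induction w generalizing x with
  | nil => simp
  | cons l w ih =>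
    have h1 := ih (fun l' hl' => hw l' (by simp [hl'])) (L.val l x)
    simp only [ev_cons, Perm.mul_apply, walk_cons]
    rw [h1, val_apply L (hw l (by simp))]

/-- A word is a relator as soon as it fixes all the points. -/
theorem ev_eq_one {w : List ℕ} (hw : ∀ l ∈ w, l < L.k)
    (h : ∀ x, x < N → walk (fun x l => L.F l x) x w = x) : ev L.val w = 1 := by
  ext x
  rw [ev_apply L hw, h x x.2]
  rfl

/-- Two words with the same action. -/
theorem ev_eq_val (L' : Letters N) {w : List ℕ} (hw : ∀ l ∈ w, l < L.k) {s : ℕ} (hs : s < L'.k)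
    (h : ∀ x, x < N → walk (fun x l => L.F l x) x w = L'.F s x) : ev L.val w = L'.val s := by
  ext x
  rw [ev_apply L hw, h x x.2, val_apply L' hs]

end Letters

/-! ### The level theorem -/

/-- The outcome of a level: `S` is the stabiliser in `G` of the point `p`, the points `pt c`, `c < m`
form the orbit of `p`, and `|G| = m * |S|`. -/
structure LevelResult {N : ℕ} (G S : Subgroup (Perm (Fin N))) (p : Fin N) (m : ℕ) (pt : ℕ → ℕ) :
    Prop where
  le : S ≤ G
  fix : ∀ s ∈ S, s p = p
  stab : ∀ g ∈ G, g p = p → g ∈ S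
  card : Nat.card G = m * Nat.card S
  orbit : ∀ c, c < m → ∃ g ∈ G, ((g p : Fin N) : ℕ) = pt c
  orbit' : ∀ g ∈ G, ∃ c, c < m ∧ ((g p : Fin N) : ℕ) = pt c

section Level

variable {N : ℕ} (L L' : Letters N) {m : ℕ} {pt ptInv : ℕ → ℕ}
  {E : ℕ → ℕ → ℕ} {mask b : ℕ} {J : ℕ → ℕ → ℕ} {Tp Tl : ℕ → ℕ}
  {nrot : ℕ} {rotH : ℕ → ℕ} {rotR : ℕ → List ℕ}
  {nsub : ℕ} {subH subI : ℕ → ℕ} {subP subS : ℕ → List ℕ} {sw : ℕ → List ℕ}

theorem level_result (hm : 0 < m) (hp0 : pt 0 < N)
    (hpt : ∀ c, c < m → pt c < N ∧ ptInv (pt c) = c)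
    (hcons : ∀ c, c < m → ∀ l, l < L.k →
      Nat.land (E l c) mask < m ∧ L.F l (pt c) = pt (Nat.land (E l c) mask))
    (htree : ∀ d, 0 < d → d < m → Tp d < d ∧ Tl d < L.k ∧ Nat.land (E (Tl d) (Tp d)) mask = d)
    (hrot : ∀ i, i < nrot → ev L.val (rotH i :: rotR i) = 1 ∧ ∀ l ∈ rotR i, l < L.k)
    (hsw : ∀ s, s < L'.k → ev L.val (sw s) = L'.val s ∧ ∀ l ∈ sw s, l < L.k)
    (hsub : ∀ i, i < nsub → subI i < L'.k ∧ subP i ++ subH i :: subS i = sw (subI i))
    (hfix : ∀ s, s < L'.k → L'.F s (pt 0) = pt 0)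
    (hchk : ∀ c, c < m → ∀ l, l < L.k →
      checkEntry E mask b J Tp Tl L.inv nrot rotH rotR nsub subH subP subS c l = true) :
    LevelResult L.G L'.G ⟨pt 0, hp0⟩ m pt := by
  set p : Fin N := ⟨pt 0, hp0⟩ with hp
  set γ := gammaOf L.val Tp Tl with hγdef
  have hγ0 : γ 0 = 1 := gammaOf_zero _ _ _
  have hγ : ∀ d, 0 < d → d < m → γ d = L.val (Tl d) * γ (Tp d) := fun d h0 hd =>
    gammaOf_pos _ _ _ h0 (htree d h0 hd).1
  have hT : ∀ c, c < m → ∀ l, l < L.k → Nat.land (E l c) mask < m :=
    fun c hc l hl => (hcons c hc l hl).1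
  -- the transversal
  have hγp : ∀ c, c < m → γ c ∈ L.G ∧ ((γ c p : Fin N) : ℕ) = pt c := by
    intro c
    induction c using Nat.strong_induction_on with
    | _ c ih =>
      intro hc
      rcases Nat.eq_zero_or_pos c with rfl | h0
      · rw [hγ0]; exact ⟨L.G.one_mem, rfl⟩
      · obtain ⟨h1, h2, h3⟩ := htree c h0 hc
        obtain ⟨h4, h5⟩ := ih _ h1 (by omega)
        rw [hγ c h0 hc]
        refine ⟨L.G.mul_mem (L.val_mem h2) h4, ?_⟩
        simp only [Perm.mul_apply]
        rw [L.val_apply h2, h5, (hcons _ (by omega) _ h2).2, h3]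
  -- the subgroup
  have hsubS : ∀ i, i < nsub → ev L.val (subP i ++ subH i :: subS i) ∈ L'.G ∧
      (∀ l ∈ subP i, l < L.k) ∧ ∀ l ∈ subS i, l < L.k := by
    intro i hi
    obtain ⟨h1, h2⟩ := hsub i hi
    obtain ⟨h3, h4⟩ := hsw _ h1
    rw [h2, h3]
    refine ⟨L'.val_mem h1, ?_, ?_⟩
    · intro l hl; apply h4; rw [← h2]; simp [hl]
    · intro l hl; apply h4; rw [← h2]; simp [hl]
  have hclaims := claims_of_check (val := L.val) (S := L'.G) (γ := γ)
    (E := E) (mask := mask) (b := b) (J := J) (Tp := Tp) (Tl := Tl) (inv := L.inv)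
    (nrot := nrot) (rotH := rotH) (rotR := rotR) (nsub := nsub) (subH := subH)
    (subP := subP) (subS := subS) (k := L.k) (m := m)
    hT hγ0 hγ hm (fun l hl => ⟨L.inv_lt l hl, L.val_inv hl⟩) hrot hsubS hchk
  have hcover := cover_of_claims (val := L.val) (S := L'.G) (γ := γ) (k := L.k) (m := m)
    (inv := L.inv) hm hγ0 (fun l hl => ⟨L.inv_lt l hl, L.val_inv hl⟩) hT hclaims
  have hle : L'.G ≤ L.G := by
    unfold Letters.G
    rw [Subgroup.closure_le]
    rintro g ⟨s, hs, rfl⟩
    obtain ⟨h1, h2⟩ := hsw s hs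
    rw [← h1]
    exact L.ev_mem h2
  have hfixS : ∀ s ∈ L'.G, s p = p := by
    intro s hs
    have : L'.G ≤ MulAction.stabilizer (Perm (Fin N)) p := by
      unfold Letters.G
      rw [Subgroup.closure_le]
      rintro g ⟨s, hs, rfl⟩
      show L'.val s p = p
      apply Fin.ext
      rw [L'.val_apply hs]
      exact hfix s hs
    exact this hs
  have hinj : ∀ c c', c < m → c' < m → pt c = pt c' → c = c' := by
    intro c c' hc hc' h
    have h1 := (hpt c hc).2
    have h2 := (hpt c' hc').2
    rw [← h1, ← h2, h]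
  -- the value of an element
  have hval : ∀ g ∈ L.G, ∃ c, c < m ∧ (γ c)⁻¹ * g ∈ L'.G ∧ ((g p : Fin N) : ℕ) = pt c := by
    intro g hg
    obtain ⟨c, hc, hS⟩ := hcover g hg
    refine ⟨c, hc, hS, ?_⟩
    have h1 := hfixS _ hS
    have h2 : g p = γ c p := by
      have : g = γ c * ((γ c)⁻¹ * g) := by group
      rw [this, Perm.mul_apply, h1]
    rw [h2]
    exact (hγp c hc).2
  refine ⟨hle, hfixS, ?_, ?_, ?_, ?_⟩
  · -- stabiliser
    intro g hg hgp
    obtain ⟨c, hc, hS, hv⟩ := hval g hg
    have h0 : pt c = pt 0 := by rw [← hv, hgp]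
    have hc0 : c = 0 := hinj c 0 hc hm h0
    subst hc0
    rw [hγ0] at hS
    simpa using hS
  · -- order
    let φ : Fin m × L'.G → L.G := fun x =>
      ⟨γ x.1 * x.2, L.G.mul_mem (hγp x.1 x.1.2).1 (hle x.2.2)⟩
    have hφ : Function.Bijective φ := by
      constructor
      · rintro ⟨c, s⟩ ⟨c', s'⟩ h
        have h1 : γ c * (s : Perm (Fin N)) = γ c' * s' := congrArg Subtype.val h
        have h2 : γ c p = γ c' p := by
          have := congrArg (fun g : Perm (Fin N) => g p) h1
          simpa [Perm.mul_apply, hfixS _ s.2, hfixS _ s'.2] using this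
        have h3 : pt c = pt c' := by
          rw [← (hγp c c.2).2, ← (hγp c' c'.2).2, h2]
        have h4 : c = c' := Fin.ext (hinj c c' c.2 c'.2 h3)
        subst h4
        have h5 : s = s' := Subtype.ext (mul_left_cancel h1)
        rw [h5]
      · rintro ⟨g, hg⟩
        obtain ⟨c, hc, hS, -⟩ := hval g hg
        refine ⟨(⟨c, hc⟩, ⟨_, hS⟩), ?_⟩
        apply Subtype.ext
        show γ c * ((γ c)⁻¹ * g) = g
        group
    have := Nat.card_congr (Equiv.ofBijective φ hφ)
    rw [← this, Nat.card_prod, Nat.card_fin]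
  · intro c hc
    exact ⟨γ c, (hγp c hc).1, (hγp c hc).2⟩
  · intro g hg
    obtain ⟨c, hc, -, hv⟩ := hval g hg
    exact ⟨c, hc, hv⟩

end Level

end Cfsg.Agent.Lib.CosetCert
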