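import Cfsg.Agent.Lib.CosetCert.Core
import Cfsg.Agent.Lib.TC.Pres

/-!
# A level of a stabiliser chain from a bound on the index

The letters of a level act on `Fin N`; the points `pt c`, `c < m`, are different points of the orbit
of `pt 0`, and the subgroup `S` fixes `pt 0`.  If the index of `S` is at most `m` then `S` is the
stabiliser of `pt 0` and `|G| = m * |S|`.  The bound on the index comes from a Todd-Coxeter
certificate of `Cfsg.Agent.Lib.TC`.
-/

namespace Cfsg.Agent.Lib.CosetCert

open Equiv

section OfIndex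

variable {N : ℕ} {G S : Subgroup (Perm (Fin N))} {p : Fin N} {m : ℕ} {pt ptInv : ℕ → ℕ}

/-- The level theorem from a bound on the index. -/
theorem levelResult_of_index (hle : S ≤ G)
    (hfix : ∀ s ∈ S, s p = p)
    (hinj : ∀ c, c < m → ptInv (pt c) = c)
    (horb : ∀ c, c < m → ∃ g ∈ G, ((g p : Fin N) : ℕ) = pt c)
    (hindex : (S.subgroupOf G).index ≤ m) (hindex0 : (S.subgroupOf G).index ≠ 0) :
    LevelResult G S p m pt := by
  classical
  -- the action of `G` on the points
  let K : Subgroup G := (MulAction.stabilizer (Perm (Fin N)) p).subgroupOf G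
  have hSK : S.subgroupOf G ≤ K := by
    intro x hx
    rw [Subgroup.mem_subgroupOf] at hx ⊢
    exact hfix _ hx
  -- the map from the cosets of `K` to the points
  -- the `m` points give `m` different cosets of `K`
  choose! γ hγG hγ using horb
  have hcos : ∀ c c' (hc : c < m) (hc' : c' < m),
      ((⟨γ c, hγG c hc⟩ : G)⁻¹ * ⟨γ c', hγG c' hc'⟩ ∈ K) → c = c' := by
    intro c c' hc hc' h
    rw [Subgroup.mem_subgroupOf] at h
    have h1 : ((γ c)⁻¹ * γ c') p = p := h
    have h2 : γ c' p = γ c p := by
      rw [Perm.mul_apply] at h1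
      rw [Perm.inv_eq_iff_eq] at h1
      exact h1
    have h3 : pt c = pt c' := by rw [← hγ c hc, ← hγ c' hc', h2]
    rw [← hinj c hc, ← hinj c' hc', h3]
  have hKindex : m ≤ K.index := by
    have hfin : Finite (G ⧸ K) := by
      have : (K.index) ≠ 0 := by
        intro h0
        have h1 := Subgroup.index_dvd_of_le hSK
        rw [h0] at h1
        exact hindex0 (Nat.eq_zero_of_zero_dvd h1)
      have : K.FiniteIndex := ⟨this⟩
      exact Subgroup.finite_quotient_of_finiteIndex
    have hinj' : Function.Injective (fun c : Fin m =>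
        ((⟨γ c, hγG c c.2⟩ : G) : G ⧸ K)) := by
      intro c c' h
      have h1 := QuotientGroup.eq.mp h
      exact Fin.ext (hcos c c' c.2 c'.2 h1)
    have := Nat.card_le_card_of_injective _ hinj'
    simpa [Subgroup.index] using this
  -- so `K` is `S`
  have hrel : (S.subgroupOf G).relIndex K = 1 := by
    have h1 := Subgroup.relIndex_mul_index hSK
    have h2 : K.index ≠ 0 := by
      intro h0
      have h1 := Subgroup.index_dvd_of_le hSK
      rw [h0] at h1
      exact hindex0 (Nat.eq_zero_of_zero_dvd h1)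
    have h3 : (S.subgroupOf G).relIndex K ≠ 0 := by
      intro h0
      rw [h0, zero_mul] at h1
      exact hindex0 h1.symm
    have h4 : (S.subgroupOf G).relIndex K * K.index ≤ m := by rw [h1]; exact hindex
    have h5 : (S.subgroupOf G).relIndex K * K.index ≤ K.index := h4.trans hKindex
    have h6 : (S.subgroupOf G).relIndex K ≤ 1 := by
      by_contra hcon
      have : 2 ≤ (S.subgroupOf G).relIndex K := by omega
      have : 2 * K.index ≤ (S.subgroupOf G).relIndex K * K.index :=
        Nat.mul_le_mul_right _ this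
      omega
    omega
  have hKS : K ≤ S.subgroupOf G := Subgroup.relIndex_eq_one.mp hrel
  have hKeq : K = S.subgroupOf G := le_antisymm hKS hSK
  have hindexm : K.index = m := by
    have h1 : (S.subgroupOf G).index = K.index := by rw [hKeq]
    omega
  have hstab : ∀ g ∈ G, g p = p → g ∈ S := by
    intro g hg hgp
    have : (⟨g, hg⟩ : G) ∈ K := by
      rw [Subgroup.mem_subgroupOf]
      exact hgp
    have h2 := hKS this
    rwa [Subgroup.mem_subgroupOf] at h2
  refine ⟨hle, hfix, hstab, ?_, fun c hc => ⟨γ c, hγG c hc, hγ c hc⟩, ?_⟩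
  · -- the order
    have h1 := Subgroup.card_mul_index (S.subgroupOf G)
    have h2 : Nat.card (S.subgroupOf G) = Nat.card S :=
      Nat.card_congr (Subgroup.subgroupOfEquivOfLe hle).toEquiv
    have h3 : (S.subgroupOf G).index = m := by rw [← hKeq]; exact hindexm
    rw [h2, h3] at h1
    rw [← h1, mul_comm]
  · -- the orbit: the transversal covers the cosets
    intro g hg
    have hsurj : Function.Surjective (fun c : Fin m =>
        ((⟨γ c, hγG c c.2⟩ : G) : G ⧸ K)) := by
      have hfin : Finite (G ⧸ K) := by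
        have : (K.index) ≠ 0 := by omega
        have : K.FiniteIndex := ⟨this⟩
        exact Subgroup.finite_quotient_of_finiteIndex
      have hinj' : Function.Injective (fun c : Fin m =>
          ((⟨γ c, hγG c c.2⟩ : G) : G ⧸ K)) := by
        intro c c' h
        have h1 := QuotientGroup.eq.mp h
        exact Fin.ext (hcos c c' c.2 c'.2 h1)
      have hc : Nat.card (Fin m) = Nat.card (G ⧸ K) := by
        rw [Nat.card_fin]
        exact hindexm.symm
      exact (Function.Injective.bijective_of_nat_card_le hinj' hc.ge).2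
    obtain ⟨c, hc⟩ := hsurj ((⟨g, hg⟩ : G) : G ⧸ K)
    have h1 := QuotientGroup.eq.mp hc
    rw [Subgroup.mem_subgroupOf] at h1
    have h2 : ((γ c)⁻¹ * g) p = p := h1
    have h3 : g p = γ c p := by
      rw [Perm.mul_apply, Perm.inv_eq_iff_eq] at h2
      exact h2
    exact ⟨c, c.2, by rw [h3]; exact hγ c c.2⟩

end OfIndex


/-! ### The index bound from a Todd-Coxeter certificate -/

section Cert

open Cfsg.Agent.Lib.TC.Core Cfsg.Agent.Lib.TC.Pres

variable {N : ℕ} (L L' : Letters N)

/-- The letters as elements of the group they generate. -/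
noncomputable def Letters.E (c : ℕ) : L.G := if h : c < L.k then ⟨L.val c, L.val_mem h⟩ else 1

theorem Letters.E_coe {c : ℕ} (h : c < L.k) : ((L.E c : L.G) : Perm (Fin N)) = L.val c := by
  simp [Letters.E, h]

theorem Letters.prodA_coe {l : List ℕ} (hl : ∀ z ∈ l, z < L.k) :
    ((prodA L.E l : L.G) : Perm (Fin N)) = ev L.val l := by
  induction l with
  | nil => rfl
  | cons z l ih =>
    rw [prodA_cons, ev_cons, Subgroup.coe_mul, ih (fun y hy => hl y (by simp [hy])),
      L.E_coe (hl z (by simp))]

theorem Letters.closure_E : Subgroup.closure (L.E '' {c | c < L.k}) = ⊤ := by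
  have h : L.E '' {c | c < L.k} =
      ((↑) : L.G → Perm (Fin N)) ⁻¹' {g | ∃ l, l < L.k ∧ g = L.val l} := by
    ext x
    constructor
    · rintro ⟨c, hc, rfl⟩
      exact ⟨c, hc, L.E_coe hc⟩
    · rintro ⟨c, hc, hx⟩
      refine ⟨c, hc, Subtype.ext ?_⟩
      rw [L.E_coe hc, hx]
  rw [h]
  exact Subgroup.closure_closure_coe_preimage

/-- The bound on the index from a checked certificate. -/
theorem index_of_cert (C : Cert) (hk : C.k = L.k) (rels subs : List (List ℕ))
    (wit : ℕ → ℕ × ℕ × Bool)
    (hrelk : ∀ l ∈ rels, ∀ z ∈ l, z < L.k)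
    (hrel : ∀ l ∈ rels, ev L.val l = 1)
    (hsubk : ∀ l ∈ subs, ∀ z ∈ l, z < L.k)
    (hsub : ∀ l ∈ subs, ev L.val l ∈ L'.G)
    (h1 : chkRelRots C L.inv rels wit = true) (h2 : chkSubRots C subs = true)
    (hC : Checked C) :
    (L'.G.subgroupOf L.G).index ≠ 0 ∧ (L'.G.subgroupOf L.G).index ≤ C.countRoots C.N := by
  refine finite_index_of_cert (L'.G.subgroupOf L.G) L.E C L.inv rels subs wit ?_ ?_ ?_ ?_ ?_ h1 h2 hC
  · intro c hc
    rw [hk] at hc ⊢
    refine ⟨L.inv_lt c hc, Subtype.ext ?_⟩
    rw [L.E_coe (L.inv_lt c hc), InvMemClass.coe_inv, L.E_coe hc, L.val_inv hc]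
  · rw [hk]
    exact L.closure_E
  · intro l hl z hz
    rw [hk]
    exact hrelk l hl z hz
  · intro l hl
    apply Subtype.ext
    rw [L.prodA_coe (hrelk l hl), hrel l hl]
    rfl
  · intro l hl
    rw [Subgroup.mem_subgroupOf, L.prodA_coe (hsubk l hl)]
    exact hsub l hl

end Cert

end Cfsg.Agent.Lib.CosetCert
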